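import Mathlib

/-!
# Square-zero comparison of two flat quotients
-/

set_option autoImplicit false
set_option linter.style.haveILetI false

universe u

open TensorProduct

namespace Groth.Agent.FamDesc

variable {A R C : Type u} [CommRing A] [CommRing R] [CommRing C] [Algebra A R] [Algebra A C]
variable (m : Ideal A) (I : Ideal R)

/-- Multiplication by elements of `m`. -/
noncomputable def mulM : m ⊗[A] (C ⊗[A] R) →ₗ[A] C ⊗[A] R :=
  TensorProduct.lift ((LinearMap.lsmul A (C ⊗[A] R)).comp m.subtype)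

theorem mulM_tmul (ν : m) (t : C ⊗[A] R) : mulM m (ν ⊗ₜ[A] t) = (ν : A) • t := rfl

/-- The class of an element of `m ⊗ T` in `C ⊗ (m ⊗ R/I)`. -/
noncomputable def piM : m ⊗[A] (C ⊗[A] R) →ₗ[A] C ⊗[A] (m ⊗[A] (R ⧸ I)) :=
  (TensorProduct.leftComm A m C (R ⧸ I)).toLinearMap.comp
    ((((Ideal.Quotient.mkₐ A I).toLinearMap).lTensor C).lTensor m)

theorem piM_tmul (ν : m) (c : C) (r : R) :
    piM m I (ν ⊗ₜ[A] (c ⊗ₜ[A] r)) = c ⊗ₜ[A] (ν ⊗ₜ[A] Ideal.Quotient.mk I r) := rfl

/-- The extension of `I` to `C ⊗ R`. -/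
noncomputable abbrev extI : Ideal (C ⊗[A] R) :=
  I.map (Algebra.TensorProduct.includeRight : R →ₐ[A] C ⊗[A] R)

theorem mem_extI_iff (x : C ⊗[A] R) :
    x ∈ extI (A := A) (C := C) I ↔ ((Ideal.Quotient.mkₐ A I).toLinearMap.lTensor C) x = 0 := by
  have h := Algebra.TensorProduct.lTensor_ker (A := C) (Ideal.Quotient.mkₐ A I) (Ideal.Quotient.mkₐ_surjective A I)
  rw [show RingHom.ker (Ideal.Quotient.mkₐ A I) = I from Ideal.mk_ker] at h
  show x ∈ I.map (Algebra.TensorProduct.includeRight : R →ₐ[A] C ⊗[A] R) ↔ _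
  rw [← h]
  rfl

variable {m I}

theorem smul_eq_zero_of_mem (hm : m * m = ⊥) (ν : m) {w : C ⊗[A] R} (hw : w ∈ m.map (algebraMap A (C ⊗[A] R))) :
    (ν : A) • w = 0 := by
  induction hw using Submodule.span_induction with
  | mem y hy =>
    obtain ⟨a, ha, rfl⟩ := hy
    have h0 : (ν : A) * a ∈ m * m := Ideal.mul_mem_mul ν.2 ha
    rw [hm, Submodule.mem_bot] at h0
    rw [Algebra.smul_def, ← map_mul, h0, map_zero]
  | zero => exact smul_zero _
  | add x y _ _ hx hy => rw [smul_add, hx, hy, add_zero]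
  | smul a x _ hx => rw [smul_comm, hx, smul_zero]

theorem mulM_mem (z : m ⊗[A] (C ⊗[A] R)) : mulM m z ∈ m.map (algebraMap A (C ⊗[A] R)) := by
  induction z using TensorProduct.induction_on with
  | zero => rw [map_zero]; exact zero_mem _
  | tmul ν t =>
    rw [mulM_tmul, Algebra.smul_def]
    exact Ideal.mul_mem_right _ _ (Ideal.mem_map_of_mem _ ν.2)
  | add x y hx hy => rw [map_add]; exact add_mem hx hy

theorem exists_mulM {w : C ⊗[A] R} (hw : w ∈ m.map (algebraMap A (C ⊗[A] R))) : ∃ z, mulM m z = w := by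
  induction hw using Submodule.span_induction with
  | mem y hy =>
    obtain ⟨a, ha, rfl⟩ := hy
    exact ⟨⟨a, ha⟩ ⊗ₜ 1, by rw [mulM_tmul, Algebra.algebraMap_eq_smul_one]⟩
  | zero => exact ⟨0, map_zero _⟩
  | add x y _ _ hx hy =>
    obtain ⟨zx, rfl⟩ := hx
    obtain ⟨zy, rfl⟩ := hy
    exact ⟨zx + zy, map_add _ _ _⟩
  | smul t x _ hx =>
    obtain ⟨z, rfl⟩ := hx
    exact ⟨(LinearMap.mulLeft A t).lTensor m z, mulM_mulLeft t z⟩
where
  mulM_mulLeft (t : C ⊗[A] R) (z : m ⊗[A] (C ⊗[A] R)) :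
      mulM m ((LinearMap.mulLeft A t).lTensor m z) = t • mulM m z := by
    induction z using TensorProduct.induction_on with
    | zero => simp
    | tmul ν s => rw [LinearMap.lTensor_tmul, mulM_tmul, mulM_tmul, smul_comm]; rfl
    | add x y hx hy => rw [map_add, map_add, map_add, hx, hy, smul_add]

section quot

variable (hm : m * m = ⊥) (P : Ideal (C ⊗[A] R)) (hP : P ⊔ m.map (algebraMap A (C ⊗[A] R)) = extI I)
  [Module.Flat A ((C ⊗[A] R) ⧸ P)]

include hm hP in
/-- In a flat quotient, `m`-multiples are detected by their classes. -/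
theorem mulM_mem_iff (z : m ⊗[A] (C ⊗[A] R)) : mulM m z ∈ P ↔ piM m I z = 0 := by
  have hker : ∀ w, ((((Ideal.Quotient.mkₐ A I).toLinearMap).lTensor C).lTensor m) w = 0 ↔ piM m I w = 0 :=
    fun w => (LinearEquiv.map_eq_zero_iff (TensorProduct.leftComm A m C (R ⧸ I))).symm
  let mkI := ((Ideal.Quotient.mkₐ A I).toLinearMap).lTensor C
  have hexI : Function.Exact ((extI (A := A) (C := C) I).restrictScalars A).subtype mkI := by
    intro x
    rw [← mem_extI_iff]
    exact ⟨fun hx => ⟨⟨x, hx⟩, rfl⟩, fun ⟨y, hy⟩ => hy ▸ y.2⟩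
  have hsI : Function.Surjective mkI :=
    LinearMap.lTensor_surjective _ (Ideal.Quotient.mkₐ_surjective A I)
  have hexP : Function.Exact (P.restrictScalars A).subtype (Ideal.Quotient.mkₐ A P).toLinearMap := by
    intro x
    show Ideal.Quotient.mk P x = 0 ↔ _
    rw [Ideal.Quotient.eq_zero_iff_mem]
    exact ⟨fun hx => ⟨⟨x, hx⟩, rfl⟩, fun ⟨y, hy⟩ => hy ▸ y.2⟩
  constructor
  · intro hz
    let mulP : m ⊗[A] ((C ⊗[A] R) ⧸ P) →ₗ[A] (C ⊗[A] R) ⧸ P :=
      (TensorProduct.lid A _).toLinearMap.comp (m.subtype.rTensor _)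
    have hinj : Function.Injective mulP :=
      (TensorProduct.lid A _).injective.comp
        (Module.Flat.rTensor_preserves_injective_linearMap m.subtype m.injective_subtype)
    have hcomm : ∀ w, mulP ((Ideal.Quotient.mkₐ A P).toLinearMap.lTensor m w) = Ideal.Quotient.mk P (mulM m w) := by
      intro w
      induction w using TensorProduct.induction_on with
      | zero => simp
      | tmul ν t => rw [mulM_tmul]; exact (map_smul (Ideal.Quotient.mkₐ A P) (ν : A) t).symm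
      | add x y hx hy => simp only [map_add, hx, hy]
    have h1 : (Ideal.Quotient.mkₐ A P).toLinearMap.lTensor m z = 0 :=
      hinj (by rw [hcomm, map_zero, Ideal.Quotient.eq_zero_iff_mem.2 hz])
    obtain ⟨y, hy⟩ := ((lTensor_exact m hexP (Ideal.Quotient.mkₐ_surjective A P)) z).1 h1
    rw [← hy]
    clear hy h1 hz
    induction y using TensorProduct.induction_on with
    | zero => simp
    | tmul ν t =>
      rw [← hker, LinearMap.lTensor_tmul, LinearMap.lTensor_tmul]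
      have ht : (t : C ⊗[A] R) ∈ P ⊔ m.map (algebraMap A (C ⊗[A] R)) := Ideal.mem_sup_left t.2
      rw [hP] at ht
      have : mkI ((P.restrictScalars A).subtype t) = 0 := (mem_extI_iff I _).1 ht
      rw [show ((Ideal.Quotient.mkₐ A I).toLinearMap.lTensor C) ((P.restrictScalars A).subtype t) = 0 from this,
        TensorProduct.tmul_zero]
    | add x y hx hy => rw [map_add, map_add, hx, hy, add_zero]
  · intro hz
    obtain ⟨y, hy⟩ := ((lTensor_exact m hexI hsI) z).1 ((hker z).2 hz)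
    rw [← hy]
    clear hy hz
    induction y using TensorProduct.induction_on with
    | zero => simp
    | tmul ν t =>
      have ht : (t : C ⊗[A] R) ∈ P ⊔ m.map (algebraMap A (C ⊗[A] R)) := hP.symm ▸ t.2
      obtain ⟨p, hp, w, hw, hpw⟩ := Submodule.mem_sup.1 ht
      rw [LinearMap.lTensor_tmul, mulM_tmul, Submodule.subtype_apply, ← hpw, smul_add,
        smul_eq_zero_of_mem hm ν hw, add_zero, Algebra.smul_def]
      exact P.mul_mem_left _ hp
    | add x y hx hy => rw [map_add, map_add]; exact add_mem hx hy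

end quot

/-- `d` is the difference of the classes of `1 ⊗ r` in the two quotients. -/
def IsDelta (P Q : Ideal (C ⊗[A] R)) (r : R) (d : C ⊗[A] (m ⊗[A] (R ⧸ I))) : Prop :=
  ∃ zP zQ : m ⊗[A] (C ⊗[A] R), (1 : C) ⊗ₜ[A] r - mulM m zP ∈ P ∧ (1 : C) ⊗ₜ[A] r - mulM m zQ ∈ Q ∧
    piM m I zQ - piM m I zP = d

section pair

variable (hm : m * m = ⊥) (P Q : Ideal (C ⊗[A] R))
  (hP : P ⊔ m.map (algebraMap A (C ⊗[A] R)) = extI I) (hQ : Q ⊔ m.map (algebraMap A (C ⊗[A] R)) = extI I)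

include hP hQ in
theorem exists_isDelta {r : R} (hr : r ∈ I) : ∃ d, IsDelta (m := m) (I := I) P Q r d := by
  have key : ∀ P' : Ideal (C ⊗[A] R), P' ⊔ m.map (algebraMap A (C ⊗[A] R)) = extI I →
      ∃ z, (1 : C) ⊗ₜ[A] r - mulM m z ∈ P' := by
    intro P' hP'
    have h1 : (1 : C) ⊗ₜ[A] r ∈ P' ⊔ m.map (algebraMap A (C ⊗[A] R)) :=
      hP'.symm ▸ Ideal.mem_map_of_mem (Algebra.TensorProduct.includeRight : R →ₐ[A] C ⊗[A] R) hr
    obtain ⟨p, hp, w, hw, hpw⟩ := Submodule.mem_sup.1 h1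
    obtain ⟨z, rfl⟩ := exists_mulM hw
    exact ⟨z, by rwa [← hpw, add_sub_cancel_right]⟩
  obtain ⟨zP, hzP⟩ := key P hP
  obtain ⟨zQ, hzQ⟩ := key Q hQ
  exact ⟨_, zP, zQ, hzP, hzQ, rfl⟩

variable [Module.Flat A ((C ⊗[A] R) ⧸ P)] [Module.Flat A ((C ⊗[A] R) ⧸ Q)]

include hm hP hQ in
theorem IsDelta.unique {r : R} {d d' : C ⊗[A] (m ⊗[A] (R ⧸ I))} (h : IsDelta (m := m) (I := I) P Q r d)
    (h' : IsDelta (m := m) (I := I) P Q r d') : d = d' := by
  obtain ⟨zP, zQ, h1, h2, rfl⟩ := h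
  obtain ⟨zP', zQ', h1', h2', rfl⟩ := h'
  have e1 : piM m I zP = piM m I zP' := by
    rw [← sub_eq_zero, ← map_sub, ← mulM_mem_iff hm P hP, map_sub]
    simpa using P.sub_mem h1' h1
  have e2 : piM m I zQ = piM m I zQ' := by
    rw [← sub_eq_zero, ← map_sub, ← mulM_mem_iff hm Q hQ, map_sub]
    simpa using Q.sub_mem h2' h2
  rw [e1, e2]

include hm hP hQ in
theorem le_of_isDelta_zero (h : ∀ r ∈ I, IsDelta (m := m) (I := I) P Q r 0) : P ≤ Q := by
  have hK : extI (A := A) (C := C) I ≤ P ⊓ Q ⊔ m.map (algebraMap A (C ⊗[A] R)) := by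
    refine Ideal.map_le_iff_le_comap.2 fun r hr => ?_
    obtain ⟨zP, zQ, h1, h2, h3⟩ := h r hr
    rw [← map_sub, ← mulM_mem_iff hm Q hQ, map_sub] at h3
    have h4 : (1 : C) ⊗ₜ[A] r - mulM m zP ∈ Q := by
      have := Q.add_mem h2 h3
      rwa [sub_add_sub_cancel] at this
    show (1 : C) ⊗ₜ[A] r ∈ P ⊓ Q ⊔ m.map (algebraMap A (C ⊗[A] R))
    rw [← sub_add_cancel ((1 : C) ⊗ₜ[A] r) (mulM m zP)]
    exact Submodule.add_mem_sup ⟨h1, h4⟩ (mulM_mem zP)
  intro p hp
  have hp' : p ∈ P ⊔ m.map (algebraMap A (C ⊗[A] R)) := Ideal.mem_sup_left hp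
  rw [hP] at hp'
  obtain ⟨l, hl, w, hw, rfl⟩ := Submodule.mem_sup.1 (hK hp')
  obtain ⟨z, rfl⟩ := exists_mulM hw
  refine Q.add_mem hl.2 ((mulM_mem_iff hm Q hQ z).2 ((mulM_mem_iff hm P hP z).1 ?_))
  have := P.sub_mem hp hl.1
  rwa [add_sub_cancel_left] at this

end pair

theorem IsDelta.map {C' : Type u} [CommRing C'] [Algebra A C'] (f : C →ₐ[A] C') {P Q : Ideal (C ⊗[A] R)}
    {r : R} {d : C ⊗[A] (m ⊗[A] (R ⧸ I))} (h : IsDelta (m := m) (I := I) P Q r d) :
    IsDelta (m := m) (I := I) (P.map (Algebra.TensorProduct.map f (AlgHom.id A R)))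
      (Q.map (Algebra.TensorProduct.map f (AlgHom.id A R))) r (f.toLinearMap.rTensor _ d) := by
  obtain ⟨zP, zQ, h1, h2, rfl⟩ := h
  let F := Algebra.TensorProduct.map f (AlgHom.id A R)
  have hmul : ∀ z, mulM m (F.toLinearMap.lTensor m z) = F (mulM m z) := by
    intro z
    induction z using TensorProduct.induction_on with
    | zero => simp
    | tmul ν t => rw [LinearMap.lTensor_tmul, mulM_tmul, mulM_tmul, map_smul]; rfl
    | add x y hx hy => simp only [map_add, hx, hy]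
  have hpi : ∀ z, piM m I (F.toLinearMap.lTensor m z) = f.toLinearMap.rTensor _ (piM m I z) := by
    intro z
    induction z using TensorProduct.induction_on with
    | zero => simp
    | tmul ν t =>
      induction t using TensorProduct.induction_on with
      | zero => simp
      | tmul c r => rfl
      | add x y hx hy => simp only [tmul_add, map_add, hx, hy]
    | add x y hx hy => simp only [map_add, hx, hy]
  refine ⟨F.toLinearMap.lTensor m zP, F.toLinearMap.lTensor m zQ, ?_, ?_, ?_⟩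
  · rw [hmul]
    have := Ideal.mem_map_of_mem F h1
    rwa [map_sub, show F ((1 : C) ⊗ₜ[A] r) = (1 : C') ⊗ₜ[A] r by simp [F]] at this
  · rw [hmul]
    have := Ideal.mem_map_of_mem F h2
    rwa [map_sub, show F ((1 : C) ⊗ₜ[A] r) = (1 : C') ⊗ₜ[A] r by simp [F]] at this
  · rw [hpi, hpi, map_sub]

end Groth.Agent.FamDesc
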