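import Groth.Agent.FamDescLib.Ideals
import Groth.Agent.H0Lib.Main
import Groth.Agent.AbSchLib.Flat

/-!
# Compatible families on a proper family with constant functions are constant
-/

set_option autoImplicit false
set_option backward.isDefEq.respectTransparency false
set_option linter.style.haveILetI false

noncomputable section

universe u

open CategoryTheory CategoryTheory.Limits AlgebraicGeometry
open scoped TensorProduct

namespace Groth.Agent.FamDesc

section basics

variable {A : Type u} [CommRing A] (M : Type u) [AddCommGroup M] [Module A M] [Module Aᵐᵒᵖ M] [IsCentralScalar A M]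

/-- The map `D ⊗ M → (A ⊕ M) ⊗ D`. -/
def liftA (D : Type u) [CommRing D] [Algebra A D] : D ⊗[A] M →ₗ[A] TrivSqZeroExt A M ⊗[A] D :=
  (TensorProduct.comm A D (TrivSqZeroExt A M)).toLinearMap.comp ((TrivSqZeroExt.inrHom A M).lTensor D)

theorem liftA_injective (D : Type u) [CommRing D] [Algebra A D] : Function.Injective (liftA (A := A) M D) := by
  refine (TensorProduct.comm A D (TrivSqZeroExt A M)).injective.comp (Function.LeftInverse.injective
      (g := (TrivSqZeroExt.sndHom A M).lTensor D) fun z => ?_)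
  rw [← LinearMap.lTensor_comp_apply,
    show (TrivSqZeroExt.sndHom A M).comp (TrivSqZeroExt.inrHom A M) = LinearMap.id from
      LinearMap.ext fun m => TrivSqZeroExt.snd_inr A m, LinearMap.lTensor_id, LinearMap.id_apply]

theorem liftA_natural {D D' : Type u} [CommRing D] [Algebra A D] [CommRing D'] [Algebra A D'] (f : D →ₐ[A] D')
    (z : D ⊗[A] M) : liftA M D' (f.toLinearMap.rTensor M z) =
      Algebra.TensorProduct.map (AlgHom.id A (TrivSqZeroExt A M)) f (liftA M D z) := by
  induction z using TensorProduct.induction_on with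
  | zero => simp
  | tmul x m => rfl
  | add x y hx hy => simp only [map_add, hx, hy]

end basics

/-- Evaluation of polynomials at an element. -/
def ev (B : Type u) [CommRing B] (x : B) : Polynomial (ULift.{u} ℤ) →+* B :=
  Polynomial.eval₂RingHom ((Int.castRingHom B).comp (ULift.ringEquiv : ULift.{u} ℤ ≃+* ℤ).toRingHom) x

theorem ev_X (B : Type u) [CommRing B] (x : B) : ev B x Polynomial.X = x := by simp [ev]

theorem comp_ev {B B' : Type u} [CommRing B] [CommRing B'] (φ : B →+* B') (x : B) :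
    φ.comp (ev B x) = ev B' (φ x) := by
  refine Polynomial.ringHom_ext (fun a => ?_) (by simp [ev])
  simp [ev]

variable {A : Type u} [CommRing A] {H : Scheme.{u}}

/-- A family of elements of `C ⊗ M`, natural in the flat `A`-point `Spec C → H`. -/
structure Family (h : H ⟶ Spec (CommRingCat.of A)) (M : Type u) [AddCommGroup M] [Module A M] where
  val : ∀ (C : Type u) [CommRing C] [Algebra A C] [Module.Flat A C] (c : Spec (CommRingCat.of C) ⟶ H),
    c ≫ h = sp (algebraMap A C) → C ⊗[A] M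
  natural : ∀ (C : Type u) [CommRing C] [Algebra A C] [Module.Flat A C] (c : Spec (CommRingCat.of C) ⟶ H)
    (hc : c ≫ h = sp (algebraMap A C)) (C' : Type u) [CommRing C'] [Algebra A C'] [Module.Flat A C']
    (f : C →ₐ[A] C') (hc' : (sp f.toRingHom ≫ c) ≫ h = sp (algebraMap A C')),
    val C' (sp f.toRingHom ≫ c) hc' = f.toLinearMap.rTensor M (val C c hc)

variable {h : H ⟶ Spec (CommRingCat.of A)}

theorem Family.natural' {M : Type u} [AddCommGroup M] [Module A M] (d : Family h M) (C : Type u) [CommRing C]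
    [Algebra A C] [Module.Flat A C] (c : Spec (CommRingCat.of C) ⟶ H) (hc : c ≫ h = sp (algebraMap A C))
    (C' : Type u) [CommRing C'] [Algebra A C'] [Module.Flat A C'] (c' : Spec (CommRingCat.of C') ⟶ H)
    (hc' : c' ≫ h = sp (algebraMap A C')) (f : C →ₐ[A] C') (hf : sp f.toRingHom ≫ c = c') :
    d.val C' c' hc' = f.toLinearMap.rTensor M (d.val C c hc) := by
  subst hf
  exact d.natural C c hc C' f hc'

theorem flat_of_chart [Flat h] (D : Type u) [CommRing D] [Algebra A D] (cD : Spec (CommRingCat.of D) ⟶ H)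
    [IsOpenImmersion cD] (hcD : cD ≫ h = sp (algebraMap A D)) : Module.Flat A D := by
  haveI : Flat (sp (algebraMap A D)) := hcD ▸ inferInstance
  exact RingHom.flat_algebraMap_iff.1 ((HasRingHomProperty.Spec_iff (P := @Flat)).1 ‹_›)

theorem exists_piece (h : H ⟶ Spec (CommRingCat.of A)) (A' : Type u) [CommRing A'] [Algebra A A'] (D : Type u)
    [CommRing D] [Algebra A D] (cD : Spec (CommRingCat.of D) ⟶ H) (hcD : cD ≫ h = sp (algebraMap A D)) :
    ∃ q : Spec (CommRingCat.of (A' ⊗[A] D)) ⟶ pullback h (sp (algebraMap A A')),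
      IsPullback q (sp (Algebra.TensorProduct.includeRight : D →ₐ[A] A' ⊗[A] D).toRingHom)
        (pullback.fst h (sp (algebraMap A A'))) cD ∧
      q ≫ pullback.snd h (sp (algebraMap A A')) =
        sp (Algebra.TensorProduct.includeLeftRingHom (R := A) (A := A') (B := D)) := by
  have hT : IsPullback (sp (Algebra.TensorProduct.includeLeftRingHom (R := A) (A := A') (B := D)))
      (sp (Algebra.TensorProduct.includeRight : D →ₐ[A] A' ⊗[A] D).toRingHom)
      (sp (algebraMap A A')) (sp (algebraMap A D)) :=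
    isPullback_SpecMap_of_isPushout _ _ _ _ (CommRingCat.isPushout_tensorProduct A A' D)
  let q := pullback.lift (f := h) (g := sp (algebraMap A A'))
    (sp (Algebra.TensorProduct.includeRight : D →ₐ[A] A' ⊗[A] D).toRingHom ≫ cD)
    (sp (Algebra.TensorProduct.includeLeftRingHom (R := A) (A := A') (B := D))) (by
      rw [Category.assoc, hcD]; exact hT.w.symm)
  refine ⟨q, IsPullback.of_right (h₁₂ := pullback.snd h (sp (algebraMap A A'))) (v₁₃ := sp (algebraMap A A'))
    (h₂₂ := h) ?_ (pullback.lift_fst _ _ _) (IsPullback.of_hasPullback h (sp (algebraMap A A'))).flip,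
    pullback.lift_snd _ _ _⟩
  rw [hcD, pullback.lift_snd]
  exact hT

variable {M : Type u} [AddCommGroup M] [Module A M] [Module Aᵐᵒᵖ M] [IsCentralScalar A M]

/-- The piece of a point factoring through a chart maps to the piece of the chart. -/
theorem exists_piece_map (d : Family h M) {D : Type u} [CommRing D] [Algebra A D] [Module.Flat A D]
    {cD : Spec (CommRingCat.of D) ⟶ H} (hcD : cD ≫ h = sp (algebraMap A D))
    {q : Spec (CommRingCat.of (TrivSqZeroExt A M ⊗[A] D)) ⟶ pullback h (sp (algebraMap A (TrivSqZeroExt A M)))}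
    (hq : q ≫ pullback.fst h (sp (algebraMap A (TrivSqZeroExt A M))) =
      sp (Algebra.TensorProduct.includeRight : D →ₐ[A] TrivSqZeroExt A M ⊗[A] D).toRingHom ≫ cD)
    (hq2 : q ≫ pullback.snd h (sp (algebraMap A (TrivSqZeroExt A M))) =
      sp (Algebra.TensorProduct.includeLeftRingHom (R := A) (A := TrivSqZeroExt A M) (B := D)))
    {D' : Type u} [CommRing D'] [Algebra A D'] [Module.Flat A D'] {cD' : Spec (CommRingCat.of D') ⟶ H}
    (hcD' : cD' ≫ h = sp (algebraMap A D'))
    {q' : Spec (CommRingCat.of (TrivSqZeroExt A M ⊗[A] D')) ⟶ pullback h (sp (algebraMap A (TrivSqZeroExt A M)))}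
    (hq' : q' ≫ pullback.fst h (sp (algebraMap A (TrivSqZeroExt A M))) =
      sp (Algebra.TensorProduct.includeRight : D' →ₐ[A] TrivSqZeroExt A M ⊗[A] D').toRingHom ≫ cD')
    (hq2' : q' ≫ pullback.snd h (sp (algebraMap A (TrivSqZeroExt A M))) =
      sp (Algebra.TensorProduct.includeLeftRingHom (R := A) (A := TrivSqZeroExt A M) (B := D')))
    [IsOpenImmersion cD] (hr : Set.range cD' ⊆ Set.range cD) :
    ∃ t : Spec (CommRingCat.of (TrivSqZeroExt A M ⊗[A] D')) ⟶ Spec (CommRingCat.of (TrivSqZeroExt A M ⊗[A] D)),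
      t ≫ q = q' ∧ t ≫ sp (ev _ (liftA M D (d.val D cD hcD))) = sp (ev _ (liftA M D' (d.val D' cD' hcD'))) := by
  obtain ⟨f₀, hf₀⟩ := Spec.map_surjective (IsOpenImmersion.lift cD cD' hr)
  have hf : sp f₀.hom ≫ cD = cD' := by
    rw [show sp f₀.hom = Spec.map f₀ from rfl, hf₀, IsOpenImmersion.lift_fac]
  have hcomm : f₀.hom.comp (algebraMap A D) = algebraMap A D' := by
    refine congrArg CommRingCat.Hom.hom (Spec.map_injective (show sp (f₀.hom.comp (algebraMap A D)) =
      sp (algebraMap A D') from ?_))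
    rw [← sp_comp, ← hcD, reassoc_of% hf, hcD']
  let f : D →ₐ[A] D' := { f₀.hom with commutes' := fun r => RingHom.congr_fun hcomm r }
  let F := Algebra.TensorProduct.map (AlgHom.id A (TrivSqZeroExt A M)) f
  refine ⟨sp F.toRingHom, ?_, ?_⟩
  · apply pullback.hom_ext
    · rw [Category.assoc, hq, ← Category.assoc, sp_comp, hq', ← hf, ← Category.assoc, sp_comp]
      congr 1
    · rw [Category.assoc, hq2, sp_comp, hq2']
      exact congrArg sp (RingHom.ext fun r => by simp [F])
  · rw [sp_comp, comp_ev, d.natural' D cD hcD D' cD' hcD' f hf, liftA_natural]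
    rfl

variable [IsProper h] [Smooth h] [GeometricallyConnected h]

set_option maxHeartbeats 1000000 in
/-- The glued function. -/
theorem exists_constant (d : Family h M) :
    ∃ a : TrivSqZeroExt A M, ∀ (D : Type u) [CommRing D] [Algebra A D] [Module.Flat A D]
      (cD : Spec (CommRingCat.of D) ⟶ H) (hcD : cD ≫ h = sp (algebraMap A D)),
      (∃ U : H.Opens, IsAffineOpen U ∧ Set.range cD ⊆ (U : Set H)) →
      liftA M D (d.val D cD hcD) = a ⊗ₜ[A] (1 : D) := by
  classical
  let A' := TrivSqZeroExt A M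
  let h' := pullback.snd h (sp (algebraMap A A'))
  let ι := H.affineOpens
  let D : ι → Type u := fun i => Γ(H, i.1)
  let φ : ∀ i, A →+* D i := fun i => (Spec.preimage (i.2.fromSpec ≫ h)).hom
  letI : ∀ i, Algebra A (D i) := fun i => (φ i).toAlgebra
  have hD : ∀ i, i.2.fromSpec ≫ h = sp (algebraMap A (D i)) := fun i => (Spec.map_preimage _).symm
  haveI : ∀ i, Module.Flat A (D i) := fun i => flat_of_chart (D i) i.2.fromSpec (hD i)
  choose q hq hq2 using fun i => exists_piece h A' (D i) i.2.fromSpec (hD i)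
  haveI : ∀ i, IsOpenImmersion (q i) := fun i => MorphismProperty.of_isPullback (hq i).flip inferInstance
  let g : ∀ i, Spec (CommRingCat.of (A' ⊗[A] D i)) ⟶ Spec (CommRingCat.of (Polynomial (ULift.{u} ℤ))) :=
    fun i => sp (ev _ (liftA M (D i) (d.val (D i) i.2.fromSpec (hD i))))
  have hrange : ∀ i, ∀ w : ↥(pullback h (sp (algebraMap A A'))),
      pullback.fst h (sp (algebraMap A A')) w ∈ i.1 → w ∈ Set.range (q i) := by
    intro i w hw
    rw [← SetLike.mem_coe, ← i.2.range_fromSpec] at hw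
    obtain ⟨z, hz⟩ := hw
    obtain ⟨p, hp1, -⟩ := Scheme.exists_preimage_of_isPullback (hq i) w z hz.symm
    exact ⟨p, hp1⟩
  let 𝒰 : (pullback h (sp (algebraMap A A'))).OpenCover :=
    Scheme.openCoverOfIsOpenCover _ (fun i => (q i).opensRange)
      (TopologicalSpace.IsOpenCover.mk (eq_top_iff.2 fun w _ => by
        obtain ⟨U, hU, hwU, -⟩ := exists_isAffineOpen_mem_and_subset (X := H)
          (x := pullback.fst h (sp (algebraMap A A')) w) (U := ⊤) trivial
        exact TopologicalSpace.Opens.mem_iSup.2 ⟨⟨U, hU⟩, hrange ⟨U, hU⟩ w hwU⟩))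
  let G : ∀ i, 𝒰.X i ⟶ Spec (CommRingCat.of (Polynomial (ULift.{u} ℤ))) := fun i => (q i).isoOpensRange.inv ≫ g i
  have hcompat : ∀ (i j : ι) (Z : Scheme.{u}) (a : Z ⟶ Spec (CommRingCat.of (A' ⊗[A] D i)))
      (b : Z ⟶ Spec (CommRingCat.of (A' ⊗[A] D j))), a ≫ q i = b ≫ q j → a ≫ g i = b ≫ g j := by
    intro i j Z a b hab
    let κ := a ≫ q i ≫ pullback.fst h (sp (algebraMap A A'))
    have hκi : ∀ z, κ z ∈ i.1 := fun z => by
      rw [show κ = (a ≫ sp (Algebra.TensorProduct.includeRight : D i →ₐ[A] A' ⊗[A] D i).toRingHom) ≫ i.2.fromSpec by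
        simp only [κ, (hq i).w, Category.assoc]]
      exact i.2.range_fromSpec.le ⟨_, rfl⟩
    have hκj : ∀ z, κ z ∈ j.1 := fun z => by
      rw [show κ = (b ≫ sp (Algebra.TensorProduct.includeRight : D j →ₐ[A] A' ⊗[A] D j).toRingHom) ≫ j.2.fromSpec by
        simp only [κ, reassoc_of% hab, (hq j).w, Category.assoc]]
      exact j.2.range_fromSpec.le ⟨_, rfl⟩
    have hloc : ∀ z, ∃ V : H.Opens, IsAffineOpen V ∧ κ z ∈ V ∧ V ≤ i.1 ⊓ j.1 := fun z =>
      let ⟨V, h1, h2, h3⟩ := exists_isAffineOpen_mem_and_subset (X := H) (x := κ z) (U := i.1 ⊓ j.1) ⟨hκi z, hκj z⟩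
      ⟨V, h1, h2, h3⟩
    choose V hV hzV hVij using hloc
    refine Scheme.Cover.hom_ext (Z.openCoverOfIsOpenCover (fun z => κ ⁻¹ᵁ V z)
      (TopologicalSpace.IsOpenCover.mk (eq_top_iff.2 fun z _ =>
        TopologicalSpace.Opens.mem_iSup.2 ⟨z, hzV z⟩))) _ _ fun z => ?_
    let k : ι := ⟨V z, hV z⟩
    have hr : Set.range ((κ ⁻¹ᵁ V z).ι ≫ a ≫ q i) ⊆ Set.range (q k) := by
      rintro _ ⟨p, rfl⟩
      exact hrange k _ (show κ ((κ ⁻¹ᵁ V z).ι p) ∈ V z from p.2)
    let l := IsOpenImmersion.lift (q k) _ hr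
    have hl := IsOpenImmersion.lift_fac (q k) _ hr
    obtain ⟨ti, hti, htig⟩ := exists_piece_map d (hD i) (hq i).w (hq2 i) (hD k) (hq k).w (hq2 k)
      (by rw [k.2.range_fromSpec, i.2.range_fromSpec]; exact fun _ hp => (hVij z hp).1)
    obtain ⟨tj, htj, htjg⟩ := exists_piece_map d (hD j) (hq j).w (hq2 j) (hD k) (hq k).w (hq2 k)
      (by rw [k.2.range_fromSpec, j.2.range_fromSpec]; exact fun _ hp => (hVij z hp).2)
    show (κ ⁻¹ᵁ V z).ι ≫ a ≫ g i = (κ ⁻¹ᵁ V z).ι ≫ b ≫ g j
    have ha : l ≫ ti = (κ ⁻¹ᵁ V z).ι ≫ a := by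
      rw [← cancel_mono (q i), Category.assoc, hti, hl, Category.assoc]
    have hb : l ≫ tj = (κ ⁻¹ᵁ V z).ι ≫ b := by
      rw [← cancel_mono (q j), Category.assoc, htj, hl, Category.assoc, hab]
    rw [← reassoc_of% ha, ← reassoc_of% hb, htig, htjg]
  let Φ : pullback h (sp (algebraMap A A')) ⟶ Spec (CommRingCat.of (Polynomial (ULift.{u} ℤ))) :=
    Scheme.Cover.glueMorphisms 𝒰 G fun i j => by
      simp only [G, ← Category.assoc]
      refine hcompat i j _ _ _ ?_
      simp only [Category.assoc, Scheme.Hom.isoOpensRange_inv_comp]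
      exact pullback.condition
  have hΦ : ∀ i, q i ≫ Φ = g i := fun i => by
    have h1 : (q i).opensRange.ι ≫ Φ = G i := Scheme.Cover.ι_glueMorphisms 𝒰 G _ i
    rw [← Scheme.Hom.isoOpensRange_hom_ι_assoc (q i), h1]
    simp [G]
  haveI : IsProper h' := MorphismProperty.pullback_snd _ _ inferInstance
  haveI : Smooth h' := MorphismProperty.pullback_snd _ _ inferInstance
  haveI : GeometricallyConnected h' := inferInstanceAs (GeometricallyConnected (pullback.snd h _))
  haveI : GeometricallyReduced h' := AbSchLib.geometricallyReduced_of_smooth h'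
  haveI : IsIso h'.appTop := (ConcreteCategory.isIso_iff_bijective _).2 (H0Lib.bijective_app_of_geometrically h' ⊤)
  let ψ : CommRingCat.of (Polynomial (ULift.{u} ℤ)) ⟶ CommRingCat.of A' :=
    (Scheme.ΓSpecIso _).inv ≫ Φ.appTop ≫ inv h'.appTop ≫ (Scheme.ΓSpecIso _).hom
  have hψ : Φ = h' ≫ Spec.map ψ := by
    refine ext_of_isAffine ?_
    rw [Scheme.Hom.comp_appTop, ← cancel_epi (Scheme.ΓSpecIso _).inv, ← Category.assoc,
      ← Scheme.ΓSpecIso_inv_naturality]
    simp [ψ]
  refine ⟨ψ.hom Polynomial.X, fun D₁ _ _ _ cD hcD ⟨U, hU, hr⟩ => ?_⟩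
  obtain ⟨qD, hqD, hqD2⟩ := exists_piece h A' D₁ cD hcD
  let i : ι := ⟨U, hU⟩
  obtain ⟨t, ht, htg⟩ := exists_piece_map d (hD i) (hq i).w (hq2 i) hcD hqD.w hqD2
    (hr.trans i.2.range_fromSpec.ge)
  have h1 : sp (ev (A' ⊗[A] D₁) (liftA M D₁ (d.val D₁ cD hcD))) =
      sp (Algebra.TensorProduct.includeLeftRingHom (R := A) (A := A') (B := D₁)) ≫ Spec.map ψ := by
    rw [← htg, show sp (ev _ (liftA M (D i) (d.val (D i) i.2.fromSpec (hD i)))) = g i from rfl, ← hΦ,
      reassoc_of% ht, hψ, reassoc_of% hqD2]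
  rw [show Spec.map ψ = sp ψ.hom from rfl, sp_comp] at h1
  have h2 := RingHom.congr_fun (congrArg CommRingCat.Hom.hom (Spec.map_injective h1)) Polynomial.X
  simp only [CommRingCat.hom_ofHom, ev_X, RingHom.comp_apply, Algebra.TensorProduct.includeLeftRingHom_apply] at h2
  exact h2

/-- A natural family which vanishes along a section vanishes. -/
theorem Family.eq_zero (d : Family h M) (e : Spec (CommRingCat.of A) ⟶ H)
    (he : ∀ (C : Type u) [CommRing C] [Algebra A C] [Module.Flat A C]
      (hc : (sp (algebraMap A C) ≫ e) ≫ h = sp (algebraMap A C)), d.val C (sp (algebraMap A C) ≫ e) hc = 0)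
    (hee : e ≫ h = 𝟙 _)
    (C : Type u) [CommRing C] [Algebra A C] [Module.Flat A C] (c : Spec (CommRingCat.of C) ⟶ H)
    [IsOpenImmersion c] (hc : c ≫ h = sp (algebraMap A C)) : d.val C c hc = 0 := by
  obtain ⟨a, ha⟩ := exists_constant d
  have ha0 : a = 0 := by
    refine Module.eq_zero_of_localization_maximal _
      (fun (P : Ideal A) _ => LocalizedModule.mkLinearMap P.primeCompl (TrivSqZeroExt A M)) a fun J hJ => ?_
    obtain ⟨U, hU, hpU, -⟩ := exists_isAffineOpen_mem_and_subset (X := H)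
      (x := e (⟨J, hJ.isPrime⟩ : PrimeSpectrum A)) (U := ⊤) trivial
    obtain ⟨_, ⟨r, rfl⟩, hrp, hr⟩ := PrimeSpectrum.isTopologicalBasis_basic_opens.exists_subset_of_mem_open
      (show (⟨J, hJ.isPrime⟩ : PrimeSpectrum A) ∈ e ⁻¹' (U : Set H) from hpU) (U.2.preimage e.continuous)
    haveI : Module.Flat A (Localization.Away r) := IsLocalization.flat _ (Submonoid.powers r)
    have hcE : (sp (algebraMap A (Localization.Away r)) ≫ e) ≫ h = sp (algebraMap A (Localization.Away r)) := by
      rw [Category.assoc, hee, Category.comp_id]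
    have h1 := ha (Localization.Away r) _ hcE ⟨U, hU, by
      rintro _ ⟨z, rfl⟩
      exact hr ((PrimeSpectrum.localization_away_comap_range (Localization.Away r) r).le ⟨z, rfl⟩)⟩
    rw [he, map_zero] at h1
    haveI : IsLocalizedModule (Submonoid.powers r)
        ((TensorProduct.mk A (Localization.Away r) (TrivSqZeroExt A M)) 1) :=
      (isLocalizedModule_iff_isBaseChange (Submonoid.powers r) (Localization.Away r) _).2
        (TensorProduct.isBaseChange _ _ _)
    have h2 : (TensorProduct.mk A (Localization.Away r) (TrivSqZeroExt A M)) 1 a = 0 :=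
      (LinearEquiv.map_eq_zero_iff (TensorProduct.comm A _ _)).1 h1.symm
    obtain ⟨⟨_, n, rfl⟩, hn⟩ := (IsLocalizedModule.eq_zero_iff (Submonoid.powers r) _).1 h2
    exact (IsLocalizedModule.eq_zero_iff J.primeCompl _).2
      ⟨⟨r ^ n, fun hmem => hrp (hJ.isPrime.mem_of_pow_mem n hmem)⟩, hn⟩
  refine liftA_injective M C ?_
  rw [ha C c hc ⟨c.opensRange, isAffineOpen_opensRange c, le_rfl⟩, ha0, TensorProduct.zero_tmul, map_zero]

end Groth.Agent.FamDesc
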