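import Groth.Agent.FamDescLib.Nil
import Groth.Agent.SubDescLib.Fpqc
import Groth.Agent.AlgSpLib.Fpqc
import Groth.Agent.S4666
import Groth.Agent.S11731

/-!
# Descending a family of closed subschemes along a smooth proper morphism
-/

set_option autoImplicit false
set_option backward.isDefEq.respectTransparency false
set_option linter.style.haveILetI false

noncomputable section

universe u

open CategoryTheory CategoryTheory.Limits AlgebraicGeometry
open scoped TensorProduct

namespace Groth.Agent.FamDesc

theorem nilradical_le_ker {T S : Scheme.{u}} (f : T ⟶ S) [IsReduced T] : S.nilradical ≤ f.ker := by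
  rw [← Scheme.IdealSheafData.map_bot, Scheme.IdealSheafData.le_map_iff_comap_le,
    ← Scheme.nilradical_eq_bot (X := T), ← Scheme.IdealSheafData.vanishingIdeal_top (X := T),
    ← Scheme.IdealSheafData.le_support_iff_le_vanishingIdeal, Scheme.IdealSheafData.support_comap]
  intro x _
  show f.base x ∈ S.nilradical.support
  rw [Scheme.support_nilradical]
  trivial

theorem prop_comap_iff (P : MorphismProperty Scheme.{u}) [P.RespectsIso] {Y Y' H : Scheme.{u}}
    (W : Y.IdealSheafData) (φ : Y' ⟶ Y) (t : Y' ⟶ H) :
    P ((W.comap φ).subschemeι ≫ t) ↔ P (pullback.snd W.subschemeι φ ≫ t) := by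
  rw [← W.comapIso_hom_fst φ, ← pullbackSymmetry_hom_comp_snd φ W.subschemeι, Category.assoc, Category.assoc,
    P.cancel_left_of_respectsIso, P.cancel_left_of_respectsIso]

theorem prop_comap (P : MorphismProperty Scheme.{u}) [P.RespectsIso] [P.IsStableUnderBaseChange]
    {Y Y' H H' : Scheme.{u}} (W : Y.IdealSheafData) {φ : Y' ⟶ Y} {t : Y ⟶ H} {t' : Y' ⟶ H'} {b : H' ⟶ H}
    (hsq : IsPullback φ t' t b) (hW : P (W.subschemeι ≫ t)) : P ((W.comap φ).subschemeι ≫ t') :=
  (prop_comap_iff P W φ t').2
    (MorphismProperty.of_isPullback ((IsPullback.of_hasPullback W.subschemeι φ).paste_vert hsq) hW)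

theorem prop_comap_open (P : MorphismProperty Scheme.{u}) [P.RespectsIso] [P.IsStableUnderComposition]
    {Y Y' H : Scheme.{u}} (hP : ∀ {A B : Scheme.{u}} (f : A ⟶ B) [IsOpenImmersion f], P f)
    (W : Y.IdealSheafData) (z : Y' ⟶ Y) [IsOpenImmersion z] (t : Y ⟶ H) (hW : P (W.subschemeι ≫ t)) :
    P ((W.comap z).subschemeι ≫ z ≫ t) := by
  rw [prop_comap_iff P W z (z ≫ t), ← pullback.condition_assoc]
  exact P.comp_mem _ _ (hP _) hW

section local_

variable {S X G : Scheme.{u}} {p : X ⟶ S} [Flat p] [LocallyOfFinitePresentation p]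
  {g : G ⟶ S} [IsProper g] [Smooth g] [GeometricallyConnected g]
  (Z₀ : (pullback p S.nilradical.subschemeι).IdealSheafData)
  (W : (pullback p g).IdealSheafData)
  [Flat (W.subschemeι ≫ pullback.snd p g)] [LocallyOfFinitePresentation (W.subschemeι ≫ pullback.snd p g)]

theorem comap_eq_of_reduced
    (hW : W.comap (pullback.fst (pullback.fst p g ≫ p) S.nilradical.subschemeι) =
      Z₀.comap (pullback.map (pullback.fst p g ≫ p) S.nilradical.subschemeι p S.nilradical.subschemeι
        (pullback.fst p g) (𝟙 _) (𝟙 S) (Category.comp_id _)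
        ((Category.comp_id _).trans (Category.id_comp _).symm)))
    {T : Scheme.{u}} (a : T ⟶ pullback p g) (a₀ : T ⟶ S.nilradical.subscheme)
    (ha : (a ≫ pullback.fst p g) ≫ p = a₀ ≫ S.nilradical.subschemeι) :
    W.comap a = Z₀.comap (pullback.lift (a ≫ pullback.fst p g) a₀ ha) := by
  have h1 : a = pullback.lift a a₀ (by rw [← Category.assoc]; exact ha) ≫
      pullback.fst (pullback.fst p g ≫ p) S.nilradical.subschemeι := (pullback.lift_fst _ _ _).symm
  conv_lhs => rw [h1, Scheme.IdealSheafData.comap_comp, hW, ← Scheme.IdealSheafData.comap_comp]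
  congr 1
  apply pullback.hom_ext <;> simp

/-- Over an affine open of `G`, the two pullbacks of `W` agree. -/
theorem comap_local
    (hW : W.comap (pullback.fst (pullback.fst p g ≫ p) S.nilradical.subschemeι) =
      Z₀.comap (pullback.map (pullback.fst p g ≫ p) S.nilradical.subschemeι p S.nilradical.subschemeι
        (pullback.fst p g) (𝟙 _) (𝟙 S) (Category.comp_id _)
        ((Category.comp_id _).trans (Category.id_comp _).symm)))
    {A R : Type u} [CommRing A] [CommRing R] [Algebra A R] [Algebra.FinitePresentation A R]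
    (u₀ : Spec (CommRingCat.of A) ⟶ G) [IsOpenImmersion u₀]
    (v : Spec (CommRingCat.of R) ⟶ pullback p g) [IsOpenImmersion v]
    (huv : v ≫ pullback.snd p g = sp (algebraMap A R) ≫ u₀) :
    ∃ (Y : Scheme.{u}) (y : Y ⟶ pullback (pullback.fst p g) (pullback.fst p g)), IsOpenImmersion y ∧
      (pullback.fst (pullback.fst p g) (pullback.fst p g)) ⁻¹' Set.range v ⊆ Set.range y ∧
      (W.comap (pullback.fst (pullback.fst p g) (pullback.fst p g))).comap y =
        (W.comap (pullback.snd (pullback.fst p g) (pullback.fst p g))).comap y := by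
  let f := pullback.fst p g
  let h := pullback.fst (u₀ ≫ g) g
  let h2 := pullback.snd (u₀ ≫ g) g
  haveI : IsProper h := MorphismProperty.pullback_fst _ _ inferInstance
  haveI : Smooth h := MorphismProperty.pullback_fst _ _ inferInstance
  haveI : GeometricallyConnected h := inferInstanceAs (GeometricallyConnected (pullback.fst _ g))
  let p1 := pullback.fst (sp (algebraMap A R)) h
  let p2 := pullback.snd (sp (algebraMap A R)) h
  have hY : IsPullback p1 p2 (sp (algebraMap A R)) h := IsPullback.of_hasPullback _ _
  let e : Spec (CommRingCat.of A) ⟶ pullback (u₀ ≫ g) g := pullback.lift (𝟙 _) u₀ (Category.id_comp _)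
  have hee : e ≫ h = 𝟙 _ := pullback.lift_fst _ _ _
  have hbase : (v ≫ f) ≫ p = sp (algebraMap A R) ≫ u₀ ≫ g := by
    rw [Category.assoc, pullback.condition, reassoc_of% huv]
  let y2 : pullback (sp (algebraMap A R)) h ⟶ pullback p g := pullback.lift (p1 ≫ v ≫ f) (p2 ≫ h2) (by
    rw [Category.assoc, hbase, ← Category.assoc, hY.w, Category.assoc, Category.assoc]
    exact congrArg (p2 ≫ ·) pullback.condition)
  have hy2f : y2 ≫ f = p1 ≫ v ≫ f := pullback.lift_fst _ _ _
  have hy2s : y2 ≫ pullback.snd p g = p2 ≫ h2 := pullback.lift_snd _ _ _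
  have hsq2 : IsPullback y2 p1 f (v ≫ f) := by
    refine IsPullback.of_right (h₁₂ := pullback.snd p g) (v₁₃ := g) (h₂₂ := p) ?_ hy2f
      (IsPullback.of_hasPullback p g).flip
    rw [hy2s, hbase]
    exact hY.flip.paste_horiz (IsPullback.of_hasPullback (u₀ ≫ g) g).flip
  let y : pullback (sp (algebraMap A R)) h ⟶ pullback f f := pullback.lift (p1 ≫ v) y2 (by
    rw [Category.assoc, hy2f])
  have hsqy : IsPullback y p1 (pullback.fst f f) v := by
    refine IsPullback.of_right (h₁₂ := pullback.snd f f) (v₁₃ := f) (h₂₂ := f) ?_ (pullback.lift_fst _ _ _)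
      (IsPullback.of_hasPullback f f).flip
    rwa [pullback.lift_snd]
  haveI : IsOpenImmersion y := MorphismProperty.of_isPullback hsqy.flip ‹IsOpenImmersion v›
  refine ⟨_, y, inferInstance, fun w hw => ?_, ?_⟩
  · obtain ⟨r, hr⟩ := hw
    obtain ⟨z, hz, -⟩ := Scheme.exists_preimage_of_isPullback hsqy w r hr.symm
    exact ⟨z, hz⟩
  rw [← Scheme.IdealSheafData.comap_comp, ← Scheme.IdealSheafData.comap_comp, pullback.lift_fst, pullback.lift_snd]
  -- flatness and finite presentation of the second family
  let W2 := W.comap y2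
  let P' := pullback (pullback.snd p g) h2
  let z : pullback (sp (algebraMap A R)) h ⟶ P' := pullback.lift y2 p2 hy2s
  let m : P' ⟶ pullback f f := pullback.lift (pullback.lift (pullback.fst _ _ ≫ f) (pullback.snd _ _ ≫ h ≫ u₀) (by
      rw [Category.assoc, pullback.condition (f := p), reassoc_of% (pullback.condition (f := pullback.snd p g) (g := h2))]
      simp only [Category.assoc]
      exact congrArg (pullback.snd (pullback.snd p g) h2 ≫ ·) pullback.condition.symm))
    (pullback.fst _ _) (pullback.lift_fst _ _ _)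
  haveI : Mono m := ⟨fun a b hab => by
    have h1 := congrArg (· ≫ pullback.snd f f) hab
    simp only [m, Category.assoc, pullback.lift_snd] at h1
    have h2' := congrArg (· ≫ pullback.fst f f ≫ pullback.snd p g) hab
    simp only [m, Category.assoc, pullback.lift_fst_assoc, pullback.lift_snd] at h2'
    refine pullback.hom_ext h1 (pullback.hom_ext ?_ ?_)
    · rw [← cancel_mono u₀]
      simpa only [Category.assoc] using h2'
    · rw [Category.assoc, Category.assoc, ← pullback.condition, reassoc_of% h1]⟩
  have hzm : z ≫ m = y := by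
    apply pullback.hom_ext
    · simp only [z, m, y, Category.assoc, pullback.lift_fst]
      apply pullback.hom_ext
      · simp only [Category.assoc, pullback.lift_fst, pullback.lift_fst_assoc]
        exact hy2f
      · simp only [Category.assoc, pullback.lift_snd, pullback.lift_snd_assoc]
        rw [huv, ← Category.assoc, ← Category.assoc, hY.w]
    · simp only [z, m, y, Category.assoc, pullback.lift_snd, pullback.lift_fst]
  have hsqz : IsPullback z (𝟙 _) m y :=
    IsPullback.of_isLimit' ⟨by rw [Category.id_comp]; exact hzm⟩ (PullbackCone.IsLimit.mk _ (fun s => s.snd)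
      (fun s => by rw [← cancel_mono m, Category.assoc, hzm, s.condition])
      (fun s => Category.comp_id _) (fun s t _ ht => (Category.comp_id t).symm.trans ht))
  haveI : IsOpenImmersion z := MorphismProperty.of_isPullback hsqz.flip ‹IsOpenImmersion y›
  have hW2 : (W.comap (pullback.fst (pullback.snd p g) h2)).comap z = W2 := by
    rw [← Scheme.IdealSheafData.comap_comp, pullback.lift_fst]
  have hz2 : z ≫ pullback.snd _ _ = p2 := pullback.lift_snd _ _ _
  haveI : Flat (W2.subschemeι ≫ p2) := by
    rw [← hW2, ← hz2]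
    exact prop_comap_open @Flat (fun f _ => inferInstance) _ z _
      (prop_comap @Flat W (IsPullback.of_hasPullback _ _) ‹_›)
  haveI : LocallyOfFinitePresentation (W2.subschemeι ≫ p2) := by
    rw [← hW2, ← hz2]
    exact prop_comap_open @LocallyOfFinitePresentation (fun f _ => inferInstance) _ z _
      (prop_comap @LocallyOfFinitePresentation W (IsPullback.of_hasPullback _ _) ‹_›)
  -- the constant family is the first one
  have hsec : secY hY e hee ≫ y2 = v := by
    apply pullback.hom_ext
    · rw [Category.assoc, hy2f, secY, hY.lift_fst_assoc, Category.id_comp]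
    · rw [Category.assoc, hy2s, secY, hY.lift_snd_assoc, Category.assoc, pullback.lift_snd, huv]
  have hconst : constFam hY e hee W2 = W.comap (p1 ≫ v) := by
    rw [constFam, fibre, idealOf_comap, hsec, ← comap_eq, Scheme.IdealSheafData.comap_comp]
  haveI : LocallyOfFinitePresentation ((constFam hY e hee W2).subschemeι ≫ p2) := by
    rw [hconst, Scheme.IdealSheafData.comap_comp]
    refine prop_comap @LocallyOfFinitePresentation _ hY ?_
    have h1 : LocallyOfFinitePresentation (((W.comap v).subschemeι ≫ sp (algebraMap A R)) ≫ u₀) := by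
      rw [Category.assoc, ← huv]
      exact prop_comap_open @LocallyOfFinitePresentation (fun f _ => inferInstance) _ v _ ‹_›
    exact MorphismProperty.of_isPullback (P := @LocallyOfFinitePresentation)
      (IsPullback.of_horiz_isIso_mono (fst := 𝟙 _) ⟨Category.id_comp _⟩) h1
  rw [← hconst]
  refine (eq_constFam_of_nilradical hY e hee W2 ?_).symm
  -- both families agree with the given one modulo the nilradical
  show W2.comap _ = (constFam hY e hee W2).comap _
  rw [hconst, ← Scheme.IdealSheafData.comap_comp, ← Scheme.IdealSheafData.comap_comp]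
  let mk := sp (Ideal.Quotient.mk (nilradical A))
  haveI : _root_.IsReduced (A ⧸ nilradical A) :=
    (Ideal.isRadical_iff_quotient_reduced _).1 (Ideal.radical_isRadical _)
  let ν := IsClosedImmersion.lift S.nilradical.subschemeι (mk ≫ u₀ ≫ g)
    (by rw [Scheme.IdealSheafData.ker_subschemeι]; exact nilradical_le_ker _)
  let β := pullback.fst (p2 ≫ h) mk
  let a₀ := pullback.snd (p2 ≫ h) mk ≫ ν
  have hpv : ((β ≫ p1 ≫ v) ≫ f) ≫ p = a₀ ≫ S.nilradical.subschemeι := by
    simp only [a₀, ν, Category.assoc, IsClosedImmersion.lift_fac]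
    rw [← Category.assoc v, hbase, reassoc_of% hY.w,
      ← reassoc_of% (pullback.condition (f := p2 ≫ h) (g := mk))]
  have h2f : (β ≫ y2) ≫ f = (β ≫ p1 ≫ v) ≫ f := by simp only [Category.assoc, hy2f]
  rw [comap_eq_of_reduced Z₀ W hW (β ≫ y2) a₀ (by rw [h2f]; exact hpv),
    comap_eq_of_reduced Z₀ W hW (β ≫ p1 ≫ v) a₀ hpv]
  congr 1
  apply pullback.hom_ext
  · rw [pullback.lift_fst, pullback.lift_fst]; exact h2f
  · rw [pullback.lift_snd, pullback.lift_snd]

end local_

end Groth.Agent.FamDesc
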