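import Groth.Agent.BlowUpLib.Cartier
import Groth.Agent.BlowUpLib.RegSmooth
import Mathlib.AlgebraicGeometry.Morphisms.FinitePresentation

/-!
# The ideal of a closed subscheme along a morphism from an affine scheme
-/

set_option autoImplicit false
set_option backward.isDefEq.respectTransparency false
set_option linter.style.haveILetI false

noncomputable section

universe u

open CategoryTheory CategoryTheory.Limits AlgebraicGeometry

namespace Groth.Agent.FamDesc

/-- The morphism of spectra given by a ring map. -/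
abbrev sp {R R' : Type u} [CommRing R] [CommRing R'] (φ : R →+* R') :
    Spec (CommRingCat.of R') ⟶ Spec (CommRingCat.of R) := Spec.map (CommRingCat.ofHom φ)

theorem sp_comp {R R' R'' : Type u} [CommRing R] [CommRing R'] [CommRing R''] (φ : R →+* R') (ψ : R' →+* R'') :
    sp ψ ≫ sp φ = sp (ψ.comp φ) := by
  rw [sp, sp, ← Spec.map_comp]; rfl

variable {Y : Scheme.{u}} {T : Type u} [CommRing T]

/-- The ideal of `T` defining the inverse image of a closed subscheme. -/
def idealOf (W : Y.IdealSheafData) (q : Spec (CommRingCat.of T) ⟶ Y) : Ideal T :=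
  ((W.comap q).ideal ⟨⊤, isAffineOpen_top _⟩).comap (Scheme.ΓSpecIso (CommRingCat.of T)).inv.hom

theorem comap_eq (W : Y.IdealSheafData) (q : Spec (CommRingCat.of T) ⟶ Y) :
    W.comap q = BlowUpLib.specIdeal (idealOf W q) := by
  refine Scheme.IdealSheafData.ext_of_isAffine ?_
  rw [BlowUpLib.specIdeal_top, idealOf, Ideal.map_comap_of_surjective _
    (ConcreteCategory.bijective_of_isIso (Scheme.ΓSpecIso (CommRingCat.of T)).inv).2]

theorem idealOf_eq {W : Y.IdealSheafData} {q : Spec (CommRingCat.of T) ⟶ Y} {J : Ideal T}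
    (h : W.comap q = BlowUpLib.specIdeal J) : idealOf W q = J :=
  BlowUpLib.specIdeal_injective ((comap_eq W q).symm.trans h)

theorem idealOf_comp (W : Y.IdealSheafData) (q : Spec (CommRingCat.of T) ⟶ Y) {T' : Type u} [CommRing T']
    (φ : T →+* T') : idealOf W (sp φ ≫ q) = (idealOf W q).map φ :=
  idealOf_eq (by rw [Scheme.IdealSheafData.comap_comp, comap_eq W q]; exact BlowUpLib.comap_specIdeal φ _)

theorem idealOf_comap {Y' : Scheme.{u}} (W : Y.IdealSheafData) (f : Y' ⟶ Y) (q : Spec (CommRingCat.of T) ⟶ Y') :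
    idealOf (W.comap f) q = idealOf W (q ≫ f) :=
  idealOf_eq (by rw [← Scheme.IdealSheafData.comap_comp]; exact comap_eq W _)

theorem idealOf_specIdeal (J : Ideal T) : idealOf (BlowUpLib.specIdeal J) (𝟙 _) = J :=
  idealOf_eq (Scheme.IdealSheafData.comap_id _)

theorem idealOf_congr {W W' : Y.IdealSheafData} (q : Spec (CommRingCat.of T) ⟶ Y) (h : W.comap q = W'.comap q) :
    idealOf W q = idealOf W' q := by
  rw [idealOf, idealOf, h]

theorem comap_congr {W W' : Y.IdealSheafData} (q : Spec (CommRingCat.of T) ⟶ Y) (h : idealOf W q = idealOf W' q) :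
    W.comap q = W'.comap q := by
  rw [comap_eq, comap_eq, h]

/-- The quotient by the ideal of `W` is the base change of `W`. -/
theorem quot_prop (P : MorphismProperty Scheme.{u}) [P.IsStableUnderBaseChange] [P.RespectsIso]
    {H : Scheme.{u}} {C : Type u} [CommRing C] [Algebra C T] (W : Y.IdealSheafData) (p : Y ⟶ H)
    (hW : P (W.subschemeι ≫ p)) (q : Spec (CommRingCat.of T) ⟶ Y) (c : Spec (CommRingCat.of C) ⟶ H)
    (hq : IsPullback q (sp (algebraMap C T)) p c) :
    P (sp (algebraMap C (T ⧸ idealOf W q))) := by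
  let K := W.comap q
  let i := sp (Ideal.Quotient.mk (idealOf W q))
  haveI : IsClosedImmersion i := IsClosedImmersion.spec_of_surjective _ Ideal.Quotient.mk_surjective
  have hker : K.subschemeι.ker = i.ker := by
    rw [Scheme.IdealSheafData.ker_subschemeι, BlowUpLib.ker_SpecMap_mk]
    exact comap_eq W q
  haveI := IsClosedImmersion.isIso_lift K.subschemeι i hker
  have h1 : P (pullback.snd W.subschemeι q ≫ sp (algebraMap C T)) :=
    MorphismProperty.of_isPullback ((IsPullback.of_hasPullback W.subschemeι q).paste_vert hq) hW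
  have h2 : P (K.subschemeι ≫ sp (algebraMap C T)) := by
    rw [← W.comapIso_hom_fst q, ← pullbackSymmetry_hom_comp_snd q W.subschemeι, Category.assoc, Category.assoc,
      P.cancel_left_of_respectsIso, P.cancel_left_of_respectsIso]
    exact h1
  have h3 : P (IsClosedImmersion.lift K.subschemeι i hker.le ≫ K.subschemeι ≫ sp (algebraMap C T)) := by
    rw [P.cancel_left_of_respectsIso]; exact h2
  rw [IsClosedImmersion.lift_fac_assoc, sp_comp] at h3
  exact h3

theorem flat_quot {H : Scheme.{u}} {C : Type u} [CommRing C] [Algebra C T] (W : Y.IdealSheafData) (p : Y ⟶ H)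
    [Flat (W.subschemeι ≫ p)] (q : Spec (CommRingCat.of T) ⟶ Y) (c : Spec (CommRingCat.of C) ⟶ H)
    (hq : IsPullback q (sp (algebraMap C T)) p c) : Module.Flat C (T ⧸ idealOf W q) :=
  RingHom.flat_algebraMap_iff.1 ((HasRingHomProperty.Spec_iff (P := @Flat)).1 (quot_prop @Flat W p ‹_› q c hq))

theorem fg_idealOf {H : Scheme.{u}} {C : Type u} [CommRing C] [Algebra C T]
    (W : Y.IdealSheafData) (p : Y ⟶ H)
    [LocallyOfFinitePresentation (W.subschemeι ≫ p)] (q : Spec (CommRingCat.of T) ⟶ Y)
    (c : Spec (CommRingCat.of C) ⟶ H) (hq : IsPullback q (sp (algebraMap C T)) p c)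
    [Algebra.FinitePresentation C T] : (idealOf W q).FG := by
  haveI : Algebra.FinitePresentation C (T ⧸ idealOf W q) := RingHom.finitePresentation_algebraMap.1
    ((HasRingHomProperty.Spec_iff (P := @LocallyOfFinitePresentation)).1
      (quot_prop @LocallyOfFinitePresentation W p ‹_› q c hq))
  have := Algebra.FinitePresentation.ker_fG_of_surjective (Ideal.Quotient.mkₐ C (idealOf W q)) Ideal.Quotient.mk_surjective
  exact (Ideal.mk_ker (I := idealOf W q)) ▸ this

end Groth.Agent.FamDesc
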