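import Groth.Agent.FamDescLib.Step

/-!
# Constant modulo nilpotents implies constant
-/

set_option autoImplicit false
set_option backward.isDefEq.respectTransparency false
set_option linter.style.haveILetI false

noncomputable section

universe u

open CategoryTheory CategoryTheory.Limits AlgebraicGeometry
open scoped TensorProduct

namespace Groth.Agent.FamDesc

variable {A R : Type u} [CommRing A] [CommRing R] [Algebra A R] {H Y : Scheme.{u}}
  {h : H ⟶ Spec (CommRingCat.of A)} {p1 : Y ⟶ Spec (CommRingCat.of R)} {p2 : Y ⟶ H}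
  (hY : IsPullback p1 p2 (sp (algebraMap A R)) h) (e : Spec (CommRingCat.of A) ⟶ H) (hee : e ≫ h = 𝟙 _)
  (W : Y.IdealSheafData)

theorem Agree.mono {m m' : Ideal A} (hm : m ≤ m') {W' : Y.IdealSheafData} (hW : Agree h p2 m W W') :
    Agree h p2 m' W W' := by
  let t := pullback.map (p2 ≫ h) (sp (Ideal.Quotient.mk m')) (p2 ≫ h) (sp (Ideal.Quotient.mk m)) (𝟙 _)
    (sp (Ideal.Quotient.factor hm)) (𝟙 _) (by simp) (by rw [Category.comp_id, sp_comp, Ideal.Quotient.factor_comp_mk])
  have ht : pullback.fst (p2 ≫ h) (sp (Ideal.Quotient.mk m')) =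
      t ≫ pullback.fst (p2 ≫ h) (sp (Ideal.Quotient.mk m)) :=
    ((pullback.lift_fst _ _ _).trans (Category.comp_id _)).symm
  show W.comap _ = W'.comap _
  rw [ht, Scheme.IdealSheafData.comap_comp, Scheme.IdealSheafData.comap_comp _ _ (pullback.fst _ _), hW]

/-- The induction on the order of nilpotency. -/
theorem eq_constFam_of_pow [IsProper h] [Smooth h] [GeometricallyConnected h] [Flat (W.subschemeι ≫ p2)]
    {n : Ideal A} (k : ℕ) (hn : n ^ k = ⊥) (hW : Agree h p2 n W (constFam hY e hee W)) :
    W = constFam hY e hee W := by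
  have key : ∀ j, Agree h p2 (n ^ (j + 1)) W (constFam hY e hee W) := by
    intro j
    induction j with
    | zero => rwa [zero_add, pow_one]
    | succ j ih =>
      let m := n ^ (j + 1 + 1)
      let A' := A ⧸ m
      let R' := A' ⊗[A] R
      let h' := pullback.snd h (sp (Ideal.Quotient.mk m))
      haveI : IsProper h' := MorphismProperty.pullback_snd _ _ inferInstance
      haveI : Smooth h' := MorphismProperty.pullback_snd _ _ inferInstance
      haveI : GeometricallyConnected h' := inferInstanceAs (GeometricallyConnected (pullback.snd h _))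
      let β := pullback.fst (p2 ≫ h) (sp (Ideal.Quotient.mk m))
      let b := pullback.snd (p2 ≫ h) (sp (Ideal.Quotient.mk m))
      let p2' : pullback (p2 ≫ h) (sp (Ideal.Quotient.mk m)) ⟶ pullback h (sp (Ideal.Quotient.mk m)) :=
        pullback.lift (β ≫ p2) b (by rw [Category.assoc]; exact pullback.condition)
      have hT : IsPullback (sp (algebraMap A' R'))
          (sp (Algebra.TensorProduct.includeRight : R →ₐ[A] R').toRingHom)
          (sp (algebraMap A A')) (sp (algebraMap A R)) :=
        isPullback_SpecMap_of_isPushout _ _ _ _ (CommRingCat.isPushout_tensorProduct A A' R)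
      let p1' : pullback (p2 ≫ h) (sp (Ideal.Quotient.mk m)) ⟶ Spec (CommRingCat.of R') :=
        hT.lift b (β ≫ p1) (by
          show b ≫ sp (Ideal.Quotient.mk m) = _
          rw [Category.assoc, hY.w]; exact pullback.condition.symm)
      have hsq : IsPullback β p2' p2 (pullback.fst h (sp (Ideal.Quotient.mk m))) := by
        refine IsPullback.of_bot (v₂₁ := h') (v₂₂ := h) (h₃₁ := sp (Ideal.Quotient.mk m)) ?_
          (pullback.lift_fst _ _ _).symm (IsPullback.of_hasPullback _ _)
        rw [show p2' ≫ h' = b from pullback.lift_snd _ _ _]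
        exact IsPullback.of_hasPullback _ _
      have hY' : IsPullback p1' p2' (sp (algebraMap A' R')) h' := by
        refine IsPullback.of_right (h₁₂ := sp (Algebra.TensorProduct.includeRight : R →ₐ[A] R').toRingHom)
          (v₁₃ := sp (algebraMap A R)) (h₂₂ := sp (algebraMap A A')) ?_
          ((hT.lift_fst _ _ _).trans (pullback.lift_snd _ _ _).symm) hT.flip
        rw [hT.lift_snd, show h' ≫ sp (algebraMap A A') = pullback.fst h _ ≫ h from pullback.condition.symm]
        exact hsq.paste_horiz hY
      let e' : Spec (CommRingCat.of A') ⟶ pullback h (sp (Ideal.Quotient.mk m)) :=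
        pullback.lift (sp (Ideal.Quotient.mk m) ≫ e) (𝟙 _) (by
          rw [Category.assoc, hee, Category.comp_id, Category.id_comp])
      have hee' : e' ≫ h' = 𝟙 _ := pullback.lift_snd _ _ _
      let W' := W.comap β
      haveI : Flat (W'.subschemeι ≫ p2') := by
        have h1 : Flat (pullback.snd W.subschemeι β ≫ p2') :=
          MorphismProperty.of_isPullback ((IsPullback.of_hasPullback W.subschemeι β).paste_vert hsq)
            ‹Flat (W.subschemeι ≫ p2)›
        rw [← W.comapIso_hom_fst β, ← pullbackSymmetry_hom_comp_snd β W.subschemeι, Category.assoc, Category.assoc,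
          MorphismProperty.cancel_left_of_respectsIso (P := @Flat),
          MorphismProperty.cancel_left_of_respectsIso (P := @Flat)]
        exact h1
      have hs : secY hY' e' hee' ≫ β =
          sp (Algebra.TensorProduct.includeRight : R →ₐ[A] R').toRingHom ≫ secY hY e hee := by
        apply hY.hom_ext
        · have h1 : secY hY' e' hee' ≫ p1' ≫ sp (Algebra.TensorProduct.includeRight : R →ₐ[A] R').toRingHom =
              sp (Algebra.TensorProduct.includeRight : R →ₐ[A] R').toRingHom := by
            rw [← Category.assoc, secY, hY'.lift_fst, Category.id_comp]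
          rw [hT.lift_snd] at h1
          rw [Category.assoc, h1, Category.assoc, secY, hY.lift_fst, Category.comp_id]
        · have h1 : secY hY' e' hee' ≫ p2' ≫ pullback.fst h (sp (Ideal.Quotient.mk m)) =
              sp (algebraMap A' R') ≫ sp (Ideal.Quotient.mk m) ≫ e := by
            rw [← Category.assoc, secY, hY'.lift_snd, Category.assoc, pullback.lift_fst]
          rw [pullback.lift_fst] at h1
          rw [Category.assoc, h1, Category.assoc, secY, hY.lift_snd, ← Category.assoc, ← Category.assoc, sp_comp, sp_comp]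
          congr 1
          exact congrArg sp ((IsScalarTower.algebraMap_eq A A' R').symm.trans
            (RingHom.ext fun a => ((Algebra.TensorProduct.includeRight : R →ₐ[A] R').commutes a).symm))
      have hconst : constFam hY' e' hee' W' = (constFam hY e hee W).comap β := by
        show (BlowUpLib.specIdeal (idealOf W' (secY hY' e' hee'))).comap p1' = _
        rw [idealOf_comap, hs, idealOf_comp,
          ← BlowUpLib.comap_specIdeal (Algebra.TensorProduct.includeRight : R →ₐ[A] R').toRingHom,
          ← Scheme.IdealSheafData.comap_comp, ← Scheme.IdealSheafData.comap_comp]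
        congr 1
        exact hT.lift_snd _ _ _
      let m' : Ideal A' := (n ^ (j + 1)).map (Ideal.Quotient.mk m)
      have hm' : m' * m' = ⊥ := by
        rw [← Ideal.map_mul, ← pow_add]
        refine le_bot_iff.1 ((Ideal.map_mono (Ideal.pow_le_pow_right (show j + 1 + 1 ≤ j + 1 + (j + 1) by omega))).trans ?_)
        rw [Ideal.map_quotient_self]
      have hag : Agree h' p2' m' W' (constFam hY' e' hee' W') := by
        let π := pullback.fst (p2' ≫ h') (sp (Ideal.Quotient.mk m'))
        let φ : A ⧸ n ^ (j + 1) →+* A' ⧸ m' := Ideal.Quotient.lift _ ((Ideal.Quotient.mk m').comp (Ideal.Quotient.mk m))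
          fun a ha => Ideal.Quotient.eq_zero_iff_mem.2 (Ideal.mem_map_of_mem _ ha)
        let t := pullback.lift (f := p2 ≫ h) (g := sp (Ideal.Quotient.mk (n ^ (j + 1)))) (π ≫ β)
          (pullback.snd (p2' ≫ h') (sp (Ideal.Quotient.mk m')) ≫ sp φ) (by
            have hb : π ≫ b = pullback.snd (p2' ≫ h') (sp (Ideal.Quotient.mk m')) ≫ sp (Ideal.Quotient.mk m') :=
              (congrArg (π ≫ ·) (pullback.lift_snd _ _ _).symm).trans pullback.condition
            rw [Category.assoc, show β ≫ p2 ≫ h = b ≫ sp (Ideal.Quotient.mk m) from pullback.condition,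
              ← Category.assoc, hb, Category.assoc, Category.assoc, sp_comp, sp_comp, Ideal.Quotient.lift_comp_mk])
        have ht : π ≫ β = t ≫ pullback.fst _ _ := (pullback.lift_fst _ _ _).symm
        show W'.comap π = (constFam hY' e' hee' W').comap π
        rw [hconst, ← Scheme.IdealSheafData.comap_comp, ← Scheme.IdealSheafData.comap_comp, ht,
          Scheme.IdealSheafData.comap_comp, Scheme.IdealSheafData.comap_comp _ _ (pullback.fst _ _), ih]
      show W.comap β = (constFam hY e hee W).comap β
      rw [← hconst]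
      exact eq_constFam_of_sq hY' e' hee' W' hm' hag
  have hbot : n ^ (k + 1) = ⊥ := by rw [pow_succ, hn, Ideal.bot_mul]
  refine ext_of_charts hY fun C _ _ c _ hc q hq => ?_
  exact idealOf_congr q ((key k).comap_eq q _ (hq.comp_base hc) (by rw [hbot]; exact bot_le))

include hY in
/-- Agreement modulo the nilradical implies agreement modulo a nilpotent ideal, for finitely presented
subschemes. -/
theorem exists_agree_fg [IsProper h] [Algebra.FinitePresentation A R] {W' : Y.IdealSheafData}
    [LocallyOfFinitePresentation (W.subschemeι ≫ p2)] [LocallyOfFinitePresentation (W'.subschemeι ≫ p2)]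
    {N : Ideal A} (hW : Agree h p2 N W W') :
    ∃ n : Ideal A, n ≤ N ∧ n.FG ∧ Agree h p2 n W W' := by
  classical
  haveI : CompactSpace H := QuasiCompact.compactSpace_of_compactSpace h
  choose C iC iA c q hc hc' hq hq' hy using exists_cover hY
  haveI := hq
  haveI := hc
  -- finitely many charts of `H` suffice
  have hcov : ∀ y : Y, ∀ z : Y, p2 z ∈ Set.range (c y) → z ∈ Set.range (q y) := by
    intro y z hz
    obtain ⟨w, hw⟩ := hz
    obtain ⟨p, hp, -⟩ := Scheme.exists_preimage_of_isPullback (hq' y).2 z w hw.symm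
    exact ⟨p, hp⟩
  haveI : QuasiCompact p2 := by
    haveI : QuasiCompact (sp (algebraMap A R)) := inferInstanceAs (QuasiCompact (Spec.map _))
    exact MorphismProperty.of_isPullback hY (inferInstance : QuasiCompact (sp (algebraMap A R)))
  haveI : CompactSpace Y := QuasiCompact.compactSpace_of_compactSpace p2
  obtain ⟨s, hs⟩ := (isCompact_univ (X := Y)).elim_finite_subcover (fun y => Set.range (q y))
    (fun y => (q y).isOpenEmbedding.isOpen_range) fun y _ => Set.mem_iUnion.2 ⟨y, hy y⟩
  have hone : ∀ (y : Y), ∃ n : Ideal A, n ≤ N ∧ n.FG ∧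
      idealOf W (q y) ⊔ n.map (algebraMap A (C y ⊗[A] R)) = idealOf W' (q y) ⊔ n.map (algebraMap A (C y ⊗[A] R)) := by
    intro y
    let T := C y ⊗[A] R
    haveI : Algebra.FinitePresentation (C y) T := inferInstance
    have heq := hW.idealOf_eq (q y) _ ((hq' y).comp_base (hc' y))
    have hel : ∀ (P Q : Ideal T), P ≤ Q ⊔ N.map (algebraMap A T) → P.FG →
        ∃ n : Ideal A, n ≤ N ∧ n.FG ∧ P ≤ Q ⊔ n.map (algebraMap A T) := by
      intro P Q hle hfg
      have hx : ∀ x ∈ Q ⊔ N.map (algebraMap A T), ∃ n : Ideal A, n ≤ N ∧ n.FG ∧ x ∈ Q ⊔ n.map (algebraMap A T) := by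
        intro x hx
        obtain ⟨a, ha, w, hw, rfl⟩ := Submodule.mem_sup.1 hx
        obtain ⟨u, hu, hwu⟩ := Submodule.mem_span_finite_of_mem_span hw
        choose! g hg hgu using fun z (hz : z ∈ u) => hu hz
        refine ⟨Ideal.span (u.image g : Set A), Ideal.span_le.2 (by
          rintro _ hz
          obtain ⟨z, hz', rfl⟩ := Finset.mem_image.1 hz
          exact hg z hz'), ⟨u.image g, rfl⟩, Submodule.add_mem_sup ha ?_⟩
        refine Submodule.span_le.2 (fun z hz => ?_) hwu
        rw [← hgu z hz]
        exact Ideal.mem_map_of_mem _ (Ideal.subset_span (Finset.mem_image_of_mem g hz))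
      obtain ⟨G, rfl⟩ := hfg
      choose! g hgN hgfg hgm using fun z (hz : z ∈ G) => hx z (hle (Ideal.subset_span hz))
      refine ⟨G.sup g, Finset.sup_le hgN, Submodule.fg_finset_sup G g hgfg, Ideal.span_le.2 fun z hz => ?_⟩
      exact (sup_le_sup_left (Ideal.map_mono (Finset.le_sup hz)) Q) (hgm z hz)
    obtain ⟨n₁, h1, h1', h1''⟩ := hel _ _ (le_sup_left.trans heq.le) (fg_idealOf W p2 (q y) (c y) (hq' y).2)
    obtain ⟨n₂, h2, h2', h2''⟩ := hel _ _ (le_sup_left.trans heq.ge) (fg_idealOf W' p2 (q y) (c y) (hq' y).2)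
    refine ⟨n₁ ⊔ n₂, sup_le h1 h2, Submodule.FG.sup h1' h2', le_antisymm (sup_le ?_ le_sup_right) (sup_le ?_ le_sup_right)⟩
    · exact h1''.trans (sup_le_sup_left (Ideal.map_mono le_sup_left) _)
    · exact h2''.trans (sup_le_sup_left (Ideal.map_mono le_sup_right) _)
  choose n hnN hnfg hn using hone
  refine ⟨s.sup n, Finset.sup_le fun y _ => hnN y, Submodule.fg_finset_sup s n fun y _ => hnfg y, ?_⟩
  let m := s.sup n
  let β := pullback.fst (p2 ≫ h) (sp (Ideal.Quotient.mk m))
  haveI : IsClosedImmersion (sp (Ideal.Quotient.mk m)) := IsClosedImmersion.spec_of_surjective _ Ideal.Quotient.mk_surjective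
  haveI : IsClosedImmersion β := MorphismProperty.pullback_fst _ _ inferInstance
  let V := fun y : s => pullback β (q y.1)
  haveI : ∀ y : s, IsAffine (V y) := fun y => isAffine_of_isAffineHom (pullback.snd β (q y.1))
  let qn := fun y : s => (V y).isoSpec.inv ≫ pullback.fst β (q y.1)
  haveI : ∀ y : s, IsOpenImmersion (qn y) := fun y => inferInstance
  refine eq_of_cover qn (fun w => ?_) fun y => ?_
  · obtain ⟨y, hys, hy'⟩ := Set.mem_iUnion₂.1 (hs (Set.mem_univ (β w)))
    obtain ⟨v, hv⟩ : w ∈ Set.range (pullback.fst β (q y)) := by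
      rw [Scheme.Pullback.range_fst]; exact hy'
    exact ⟨⟨y, hys⟩, (V ⟨y, hys⟩).isoSpec.hom v, by
      rw [← Scheme.Hom.comp_apply, Iso.hom_inv_id_assoc]; exact hv⟩
  · let φ := Spec.preimage ((V y).isoSpec.inv ≫ pullback.snd β (q y.1))
    have hφ : qn y ≫ β = sp φ.hom ≫ q y.1 := by
      rw [show sp φ.hom = Spec.map φ from rfl, Spec.map_preimage, Category.assoc, Category.assoc, pullback.condition]
    rw [← Scheme.IdealSheafData.comap_comp, ← Scheme.IdealSheafData.comap_comp, hφ]
    refine comap_congr _ ?_
    rw [idealOf_comp, idealOf_comp]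
    have hker : ((n y.1).map (algebraMap A (C y.1 ⊗[A] R))).map φ.hom = ⊥ := by
      rw [Ideal.map_map, Ideal.map_eq_bot_iff_le_ker]
      intro a ha
      let ψ := Spec.preimage (qn y ≫ pullback.snd (p2 ≫ h) (sp (Ideal.Quotient.mk m)))
      have h1 : sp (φ.hom.comp (algebraMap A (C y.1 ⊗[A] R))) = sp (ψ.hom.comp (Ideal.Quotient.mk m)) := by
        rw [← sp_comp, ← sp_comp, ← (hq' y.1).comp_base (hc' y.1), ← reassoc_of% hφ,
          show sp ψ.hom = Spec.map ψ from rfl, Spec.map_preimage, Category.assoc]
        rw [show β ≫ p2 ≫ h = _ from pullback.condition]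
        simp only [qn, Category.assoc]
      have h2 : φ.hom.comp (algebraMap A (C y.1 ⊗[A] R)) = ψ.hom.comp (Ideal.Quotient.mk m) :=
        congrArg CommRingCat.Hom.hom (Spec.map_injective h1)
      rw [RingHom.mem_ker, h2]
      show ψ.hom (Ideal.Quotient.mk m a) = 0
      rw [Ideal.Quotient.eq_zero_iff_mem.2 (Finset.le_sup (f := n) y.2 ha), map_zero]
    have h2 := congrArg (Ideal.map φ.hom) (hn y.1)
    rwa [Ideal.map_sup, Ideal.map_sup, hker, sup_bot_eq, sup_bot_eq] at h2

/-- A flat finitely presented family of closed subschemes which is constant modulo the nilradical is constant. -/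
theorem eq_constFam_of_nilradical [IsProper h] [Smooth h] [GeometricallyConnected h] [Flat (W.subschemeι ≫ p2)]
    [LocallyOfFinitePresentation (W.subschemeι ≫ p2)] [Algebra.FinitePresentation A R]
    [LocallyOfFinitePresentation ((constFam hY e hee W).subschemeι ≫ p2)]
    (hW : Agree h p2 (nilradical A) W (constFam hY e hee W)) : W = constFam hY e hee W := by
  obtain ⟨n, hn, hfg, hag⟩ := exists_agree_fg hY W hW
  obtain ⟨k, hk⟩ := (Ideal.FG.isNilpotent_iff_le_nilradical hfg).2 hn
  exact eq_constFam_of_pow hY e hee W k hk hag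

end Groth.Agent.FamDesc
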