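import Groth.Agent.FamDescLib.Alg
import Groth.Agent.FamDescLib.Const

/-!
# A flat family of closed subschemes which is constant modulo nilpotents is constant
-/

set_option autoImplicit false
set_option backward.isDefEq.respectTransparency false
set_option linter.style.haveILetI false

noncomputable section

universe u

open CategoryTheory CategoryTheory.Limits AlgebraicGeometry
open scoped TensorProduct

namespace Groth.Agent.FamDesc

/-- Closed subschemes agreeing on a jointly surjective family of open subschemes are equal. -/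
theorem eq_of_cover {Y : Scheme.{u}} {W W' : Y.IdealSheafData} {ι : Type*} {T : ι → Type u} [∀ i, CommRing (T i)]
    (q : ∀ i, Spec (CommRingCat.of (T i)) ⟶ Y) [∀ i, IsOpenImmersion (q i)]
    (hcov : ∀ y : Y, ∃ i, y ∈ Set.range (q i)) (h : ∀ i, W.comap (q i) = W'.comap (q i)) : W = W' := by
  refine Scheme.IdealSheafData.ext_of_iSup_eq_top
    (fun i => ⟨q i ''ᵁ ⊤, (isAffineOpen_top _).image_of_isOpenImmersion (q i)⟩)
    (eq_top_iff.2 fun y _ => ?_) fun i => ?_
  · obtain ⟨i, hi⟩ := hcov y
    refine TopologicalSpace.Opens.mem_iSup.2 ⟨i, ?_⟩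
    obtain ⟨z, hz⟩ := hi
    exact ⟨z, trivial, hz⟩
  · have h1 := congrArg (fun K : (Spec (CommRingCat.of (T i))).IdealSheafData => K.ideal ⟨⊤, isAffineOpen_top _⟩) (h i)
    simp only [Scheme.IdealSheafData.ideal_comap_of_isOpenImmersion] at h1
    exact Ideal.comap_injective_of_surjective _ (ConcreteCategory.bijective_of_isIso _).2 h1

variable {A R : Type u} [CommRing A] [CommRing R] [Algebra A R] {H Y : Scheme.{u}}
  (h : H ⟶ Spec (CommRingCat.of A)) (p1 : Y ⟶ Spec (CommRingCat.of R)) (p2 : Y ⟶ H)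

/-- Two closed subschemes agree modulo `m`. -/
def Agree (m : Ideal A) (W W' : Y.IdealSheafData) : Prop :=
  W.comap (pullback.fst (p2 ≫ h) (sp (Ideal.Quotient.mk m))) =
    W'.comap (pullback.fst (p2 ≫ h) (sp (Ideal.Quotient.mk m)))

variable {h p1 p2}

theorem Agree.comap_eq {m : Ideal A} {W W' : Y.IdealSheafData} (hW : Agree h p2 m W W') {T : Type u} [CommRing T]
    (q : Spec (CommRingCat.of T) ⟶ Y) (φ : A →+* T) (hφ : q ≫ p2 ≫ h = sp φ) (hm : m ≤ RingHom.ker φ) :
    W.comap q = W'.comap q := by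
  have hfac : q = pullback.lift q (sp (Ideal.Quotient.lift m φ hm)) (by
      rw [hφ, sp_comp, Ideal.Quotient.lift_comp_mk]) ≫ pullback.fst (p2 ≫ h) (sp (Ideal.Quotient.mk m)) :=
    (pullback.lift_fst _ _ _).symm
  rw [hfac, Scheme.IdealSheafData.comap_comp, Scheme.IdealSheafData.comap_comp _ _ (pullback.fst _ _), hW]

theorem Agree.idealOf_eq {m : Ideal A} {W W' : Y.IdealSheafData} (hW : Agree h p2 m W W') {T : Type u} [CommRing T]
    (q : Spec (CommRingCat.of T) ⟶ Y) (φ : A →+* T) (hφ : q ≫ p2 ≫ h = sp φ) :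
    idealOf W q ⊔ m.map φ = idealOf W' q ⊔ m.map φ := by
  let mkT := Ideal.Quotient.mk (m.map φ)
  have h1 : idealOf W (sp mkT ≫ q) = idealOf W' (sp mkT ≫ q) :=
    idealOf_congr _ (hW.comap_eq _ (mkT.comp φ) (by rw [Category.assoc, hφ, sp_comp]) fun a ha =>
      Ideal.Quotient.eq_zero_iff_mem.2 (Ideal.mem_map_of_mem φ ha))
  rw [idealOf_comp, idealOf_comp] at h1
  have h2 := congrArg (Ideal.comap mkT) h1
  rwa [Ideal.comap_map_of_surjective _ Ideal.Quotient.mk_surjective,
    Ideal.comap_map_of_surjective _ Ideal.Quotient.mk_surjective, ← RingHom.ker_eq_comap_bot, Ideal.mk_ker] at h2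

/-- A point of `Y` over a point of `H`. -/
def Chart (A : Type u) {R : Type u} [CommRing A] [CommRing R] [Algebra A R] {H Y : Scheme.{u}}
    (p1 : Y ⟶ Spec (CommRingCat.of R)) (p2 : Y ⟶ H) (C : Type u) [CommRing C] [Algebra A C] (c : Spec (CommRingCat.of C) ⟶ H)
    (q : Spec (CommRingCat.of (C ⊗[A] R)) ⟶ Y) : Prop :=
  q ≫ p1 = sp (Algebra.TensorProduct.includeRight : R →ₐ[A] C ⊗[A] R).toRingHom ∧
    IsPullback q (sp (algebraMap C (C ⊗[A] R))) p2 c

variable (hY : IsPullback p1 p2 (sp (algebraMap A R)) h)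

include hY in
theorem exists_chart (C : Type u) [CommRing C] [Algebra A C] (c : Spec (CommRingCat.of C) ⟶ H)
    (hc : c ≫ h = sp (algebraMap A C)) : ∃ q, Chart A p1 p2 C c q := by
  have hT : IsPullback (sp (algebraMap C (C ⊗[A] R)))
      (sp (Algebra.TensorProduct.includeRight : R →ₐ[A] C ⊗[A] R).toRingHom)
      (sp (algebraMap A C)) (sp (algebraMap A R)) :=
    isPullback_SpecMap_of_isPushout _ _ _ _ (CommRingCat.isPushout_tensorProduct A C R)
  refine ⟨hY.lift (sp (Algebra.TensorProduct.includeRight : R →ₐ[A] C ⊗[A] R).toRingHom)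
    (sp (algebraMap C (C ⊗[A] R)) ≫ c) (by rw [Category.assoc, hc]; exact hT.w.symm), hY.lift_fst _ _ _, ?_⟩
  refine IsPullback.of_right (h₁₂ := p1) (v₁₃ := sp (algebraMap A R)) (h₂₂ := h) ?_ (hY.lift_snd _ _ _) hY
  rw [hY.lift_fst, hc]
  exact hT.flip

theorem Chart.comp_base {C : Type u} [CommRing C] [Algebra A C] {c : Spec (CommRingCat.of C) ⟶ H}
    {q : Spec (CommRingCat.of (C ⊗[A] R)) ⟶ Y} (hq : Chart A p1 p2 C c q) (hc : c ≫ h = sp (algebraMap A C)) :
    q ≫ p2 ≫ h = sp (algebraMap A (C ⊗[A] R)) := by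
  rw [← Category.assoc, hq.2.w, Category.assoc, hc, sp_comp, ← IsScalarTower.algebraMap_eq]

include hY in
theorem Chart.map {C C' : Type u} [CommRing C] [Algebra A C] [CommRing C'] [Algebra A C'] (f : C →ₐ[A] C')
    {c : Spec (CommRingCat.of C) ⟶ H} {q : Spec (CommRingCat.of (C ⊗[A] R)) ⟶ Y} (hq : Chart A p1 p2 C c q)
    {q' : Spec (CommRingCat.of (C' ⊗[A] R)) ⟶ Y} (hq' : Chart A p1 p2 C' (sp f.toRingHom ≫ c) q') :
    q' = sp (Algebra.TensorProduct.map f (AlgHom.id A R)).toRingHom ≫ q := by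
  apply hY.hom_ext
  · rw [Category.assoc, hq.1, sp_comp, hq'.1]
    exact congrArg sp (RingHom.ext fun r => by simp)
  · rw [Category.assoc, hq.2.w, hq'.2.w, ← Category.assoc, ← Category.assoc, sp_comp, sp_comp]
    congr 1

include hY in
theorem exists_cover : ∀ y : Y, ∃ (C : Type u) (_ : CommRing C) (_ : Algebra A C)
    (c : Spec (CommRingCat.of C) ⟶ H) (q : Spec (CommRingCat.of (C ⊗[A] R)) ⟶ Y),
    IsOpenImmersion c ∧ c ≫ h = sp (algebraMap A C) ∧ IsOpenImmersion q ∧ Chart A p1 p2 C c q ∧ y ∈ Set.range q := by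
  intro y
  obtain ⟨U, hU, hyU, -⟩ := exists_isAffineOpen_mem_and_subset (X := H) (x := p2 y) (U := ⊤) trivial
  letI : Algebra A Γ(H, U) := (Spec.preimage (hU.fromSpec ≫ h)).hom.toAlgebra
  have hc : hU.fromSpec ≫ h = sp (algebraMap A Γ(H, U)) := (Spec.map_preimage _).symm
  obtain ⟨q, hq⟩ := exists_chart hY Γ(H, U) hU.fromSpec hc
  refine ⟨Γ(H, U), inferInstance, inferInstance, hU.fromSpec, q, inferInstance, hc,
    MorphismProperty.of_isPullback hq.2.flip inferInstance, hq, ?_⟩
  rw [← SetLike.mem_coe, ← hU.range_fromSpec] at hyU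
  obtain ⟨z, hz⟩ := hyU
  obtain ⟨p, hp, -⟩ := Scheme.exists_preimage_of_isPullback hq.2 y z hz.symm
  exact ⟨p, hp⟩

variable
  (e : Spec (CommRingCat.of A) ⟶ H) (hee : e ≫ h = 𝟙 _) (W : Y.IdealSheafData) [Flat (W.subschemeι ≫ p2)]

/-- The section of `Y` over `Spec R`. -/
def secY : Spec (CommRingCat.of R) ⟶ Y :=
  hY.lift (𝟙 _) (sp (algebraMap A R) ≫ e) (by rw [Category.id_comp, Category.assoc, hee, Category.comp_id])

theorem isPullback_secY : IsPullback (secY hY e hee) (sp (algebraMap A R)) p2 e := by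
  refine IsPullback.of_right (h₁₂ := p1) (v₁₃ := sp (algebraMap A R)) (h₂₂ := h) ?_ (hY.lift_snd _ _ _) hY
  rw [secY, hY.lift_fst, hee]
  exact IsPullback.of_horiz_isIso ⟨by simp⟩

/-- The fibre of `W` along the section. -/
abbrev fibre : Ideal R := idealOf W (secY hY e hee)

/-- The constant family with the same fibre along the section. -/
abbrev constFam : Y.IdealSheafData := (BlowUpLib.specIdeal (fibre hY e hee W)).comap p1

omit [Flat (W.subschemeι ≫ p2)] in
theorem idealOf_constFam {T : Type u} [CommRing T] (q : Spec (CommRingCat.of T) ⟶ Y) (φ : R →+* T)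
    (hq : q ≫ p1 = sp φ) : idealOf (constFam hY e hee W) q = (fibre hY e hee W).map φ := by
  rw [constFam, idealOf_comap, hq, ← Category.comp_id (sp φ), idealOf_comp, idealOf_specIdeal]

theorem flat_fibre : Module.Flat A (R ⧸ fibre hY e hee W) :=
  flat_quot W p2 (secY hY e hee) e (isPullback_secY hY e hee)

theorem flat_ext (C : Type u) [CommRing C] [Algebra A C] [Module.Flat A C] :
    Module.Flat A ((C ⊗[A] R) ⧸ extI (A := A) (C := C) (fibre hY e hee W)) := by
  haveI := flat_fibre hY e hee W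
  let g := ((Ideal.Quotient.mkₐ A (fibre hY e hee W)).toLinearMap).lTensor C
  have hg : LinearMap.ker g = (extI (A := A) (C := C) (fibre hY e hee W)).restrictScalars A := by
    ext x; exact (mem_extI_iff (fibre hY e hee W) x).symm
  exact Module.Flat.of_linearEquiv ((Submodule.Quotient.restrictScalarsEquiv A _).symm.trans
    ((Submodule.quotEquivOfEq _ _ hg.symm).trans
      (g.quotKerEquivOfSurjective (LinearMap.lTensor_surjective _ (Ideal.Quotient.mkₐ_surjective A _)))))

include hY in
/-- Closed subschemes with the same ideals on all charts are equal. -/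
theorem ext_of_charts {W' W'' : Y.IdealSheafData}
    (hW : ∀ (C : Type u) [CommRing C] [Algebra A C] (c : Spec (CommRingCat.of C) ⟶ H) [IsOpenImmersion c]
      (_ : c ≫ h = sp (algebraMap A C)) (q : Spec (CommRingCat.of (C ⊗[A] R)) ⟶ Y),
      Chart A p1 p2 C c q → idealOf W' q = idealOf W'' q) : W' = W'' := by
  choose C iC iA c q hc hc' hq hq' hy using exists_cover hY
  haveI := hq
  exact eq_of_cover (T := fun y => C y ⊗[A] R) q (fun y => ⟨y, hy y⟩) fun y =>
    comap_congr _ (@hW (C y) (iC y) (iA y) (c y) (hc y) (hc' y) (q y) (hq' y))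

variable [IsProper h] [Smooth h] [GeometricallyConnected h]

/-- The square-zero step. -/
theorem eq_constFam_of_sq {m : Ideal A} (hm : m * m = ⊥) (hW : Agree h p2 m W (constFam hY e hee W)) :
    W = constFam hY e hee W := by
  classical
  let Z := fibre hY e hee W
  let I : Ideal R := Z ⊔ m.map (algebraMap A R)
  -- the data on a chart
  have hQ : ∀ (C : Type u) [CommRing C] [Algebra A C],
      extI (A := A) (C := C) Z ⊔ m.map (algebraMap A (C ⊗[A] R)) = extI I := by
    intro C _ _
    show _ = Ideal.map (Algebra.TensorProduct.includeRight : R →ₐ[A] C ⊗[A] R).toRingHom (Z ⊔ m.map (algebraMap A R))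
    rw [Ideal.map_sup, Ideal.map_map,
      show (Algebra.TensorProduct.includeRight : R →ₐ[A] C ⊗[A] R).toRingHom.comp (algebraMap A R) =
        algebraMap A (C ⊗[A] R) from RingHom.ext fun a => (Algebra.TensorProduct.includeRight : R →ₐ[A] C ⊗[A] R).commutes a]
    rfl
  have hP : ∀ (C : Type u) [CommRing C] [Algebra A C] (c : Spec (CommRingCat.of C) ⟶ H),
      c ≫ h = sp (algebraMap A C) → ∀ q, Chart A p1 p2 C c q →
      idealOf W q ⊔ m.map (algebraMap A (C ⊗[A] R)) = extI I := by
    intro C _ _ c hc q hq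
    rw [hW.idealOf_eq q _ (hq.comp_base hc), idealOf_constFam hY e hee W q _ hq.1]
    exact hQ C
  have hflat : ∀ (C : Type u) [CommRing C] [Algebra A C] [Module.Flat A C] (c : Spec (CommRingCat.of C) ⟶ H) q,
      Chart A p1 p2 C c q → Module.Flat A ((C ⊗[A] R) ⧸ idealOf W q) := fun C _ _ _ c q hq => by
    haveI := flat_quot W p2 q c hq.2
    exact Module.Flat.trans A C _
  choose q hq using fun (C : Type u) (_ : CommRing C) (_ : Algebra A C) (c : Spec (CommRingCat.of C) ⟶ H)
    (hc : c ≫ h = sp (algebraMap A C)) => exists_chart hY C c hc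
  have main : ∀ r ∈ I, ∀ (C : Type u) [CommRing C] [Algebra A C] [Module.Flat A C]
      (c : Spec (CommRingCat.of C) ⟶ H) [IsOpenImmersion c] (hc : c ≫ h = sp (algebraMap A C)),
      IsDelta (m := m) (I := I) (idealOf W (q C _ _ c hc)) (extI (A := A) (C := C) Z) r 0 := by
    intro r hr
    have hex : ∀ (C : Type u) [CommRing C] [Algebra A C] (c : Spec (CommRingCat.of C) ⟶ H)
        (hc : c ≫ h = sp (algebraMap A C)),
        ∃ d, IsDelta (m := m) (I := I) (idealOf W (q C _ _ c hc)) (extI (A := A) (C := C) Z) r d :=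
      fun C _ _ c hc => exists_isDelta _ _ (hP C c hc _ (hq C _ _ c hc)) (hQ C) hr
    choose val hval using hex
    have huniq : ∀ (C : Type u) [CommRing C] [Algebra A C] [Module.Flat A C] (c : Spec (CommRingCat.of C) ⟶ H)
        (hc : c ≫ h = sp (algebraMap A C)) (d : C ⊗[A] (m ⊗[A] (R ⧸ I))),
        IsDelta (m := m) (I := I) (idealOf W (q C _ _ c hc)) (extI (A := A) (C := C) Z) r d → val C c hc = d := by
      intro C _ _ _ c hc d hd
      haveI := hflat C c _ (hq C _ _ c hc)
      haveI := flat_ext hY e hee W C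
      exact IsDelta.unique hm _ _ (hP C c hc _ (hq C _ _ c hc)) (hQ C) (hval C c hc) hd
    let d : Family h (m ⊗[A] (R ⧸ I)) :=
      { val := fun C _ _ _ c hc => val C c hc
        natural := fun C _ _ _ c hc C' _ _ _ f hc' => by
          refine huniq C' _ hc' _ ?_
          have h1 := (hval C c hc).map f
          have e1 : idealOf W (q C' _ _ (sp f.toRingHom ≫ c) hc') =
              (idealOf W (q C _ _ c hc)).map (Algebra.TensorProduct.map f (AlgHom.id A R)).toRingHom := by
            rw [(hq C _ _ c hc).map hY f (hq C' _ _ _ hc'), idealOf_comp]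
          have e2 : (extI (A := A) (C := C) Z).map (Algebra.TensorProduct.map f (AlgHom.id A R)) =
              extI (A := A) (C := C') Z := by
            show (Ideal.map _ Z).map _ = Ideal.map _ Z
            rw [Ideal.map_mapₐ, Algebra.TensorProduct.map_comp_includeRight, AlgHom.comp_id]
          rw [e2] at h1
          rw [e1]
          exact h1 }
    have hsec : ∀ (C : Type u) [CommRing C] [Algebra A C] [Module.Flat A C]
        (hc : (sp (algebraMap A C) ≫ e) ≫ h = sp (algebraMap A C)), d.val C (sp (algebraMap A C) ≫ e) hc = 0 := by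
      intro C _ _ _ hc
      refine huniq C _ hc _ ?_
      have e1 : q C _ _ (sp (algebraMap A C) ≫ e) hc =
          sp (Algebra.TensorProduct.includeRight : R →ₐ[A] C ⊗[A] R).toRingHom ≫ secY hY e hee := by
        apply hY.hom_ext
        · rw [(hq C _ _ _ hc).1, Category.assoc, secY, hY.lift_fst, Category.comp_id]
        · rw [(hq C _ _ _ hc).2.w, Category.assoc, secY, hY.lift_snd, ← Category.assoc, ← Category.assoc, sp_comp,
            sp_comp, ← IsScalarTower.algebraMap_eq,
            show (Algebra.TensorProduct.includeRight : R →ₐ[A] C ⊗[A] R).toRingHom.comp (algebraMap A R) =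
              algebraMap A (C ⊗[A] R) from
                RingHom.ext fun a => (Algebra.TensorProduct.includeRight : R →ₐ[A] C ⊗[A] R).commutes a]
      rw [show idealOf W (q C _ _ (sp (algebraMap A C) ≫ e) hc) = extI (A := A) (C := C) Z by
        rw [e1, idealOf_comp]; rfl]
      obtain ⟨d', zP, zQ, h1, h2, -⟩ := exists_isDelta (m := m) (I := I) (extI (A := A) (C := C) Z)
        (extI (A := A) (C := C) Z) (hQ C) (hQ C) hr
      exact ⟨zP, zP, h1, h1, sub_self _⟩
    intro C _ _ _ c _ hc
    have := hval C c hc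
    rwa [show val C c hc = 0 from d.eq_zero e hsec hee C c hc] at this
  refine ext_of_charts hY fun C _ _ c _ hc q' hq' => ?_
  haveI := flat_of_chart C c hc
  obtain rfl : q' = q C _ _ c hc := by
    apply hY.hom_ext
    · rw [hq'.1, (hq C _ _ c hc).1]
    · rw [hq'.2.w, (hq C _ _ c hc).2.w]
  rw [idealOf_constFam hY e hee W _ _ hq'.1]
  show idealOf W (q C _ _ c hc) = extI (A := A) (C := C) Z
  haveI := hflat C c _ hq'
  haveI := flat_ext hY e hee W C
  refine le_antisymm (le_of_isDelta_zero hm _ _ (hP C c hc _ hq') (hQ C) fun r hr => main r hr C c hc)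
    (le_of_isDelta_zero hm _ _ (hQ C) (hP C c hc _ hq') fun r hr => ?_)
  obtain ⟨zP, zQ, h1, h2, h3⟩ := main r hr C c hc
  exact ⟨zQ, zP, h2, h1, by rw [← neg_sub, h3, neg_zero]⟩

end Groth.Agent.FamDesc
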